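import Cfsg.Agent.J4Local.Basics
import Cfsg.Agent.Golay.GivenIndex

/-!
The stabiliser of a pair of points is the automorphism group of the group of degree 22.
-/

set_option autoImplicit false

namespace CfsgLib.J4CentT

open Cfsg CfsgLib.Golay CfsgLib.Golay.Cert MulAction
open scoped Pointwise

theorem pair_stab_aut {p q : GolayPt} (hpq : p ≠ q) :
    Nonempty (↥(stabilizer M24 ({p, q} : Finset GolayPt)) ≃* MulAut ↥Cfsg.Spor.M22) := by
  classical
  obtain ⟨k, hk⟩ := exists_map_card (s := ({none, some 0} : Finset GolayPt)) (t := {p, q})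
    (by rw [Finset.card_pair hpq, Finset.card_pair (by simp : (none : GolayPt) ≠ some 0)])
    (by rw [Finset.card_pair (by simp : (none : GolayPt) ≠ some 0)]; norm_num)
  set P := stabilizer M24 ({none, some 0} : Finset GolayPt) with hP
  have hpair : ∀ g ∈ P, (g.1 none = none ∧ g.1 (some 0) = some 0) ∨ (g.1 none = some 0 ∧ g.1 (some 0) = none) := by
    intro g hg
    have h2 : g • ({none, some 0} : Finset GolayPt) = {none, some 0} := mem_stabilizer_iff.mp hg
    have a : g.1 none ∈ ({none, some 0} : Finset GolayPt) := h2 ▸ Finset.smul_mem_smul_finset (a := g) (by simp)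
    have b : g.1 (some 0) ∈ ({none, some 0} : Finset GolayPt) := h2 ▸ Finset.smul_mem_smul_finset (a := g) (by simp)
    simp only [Finset.mem_insert, Finset.mem_singleton] at a b
    rcases a with a | a <;> rcases b with b | b
    · exact absurd (g.1.injective (a.trans b.symm)) (by simp)
    · exact Or.inl ⟨a, b⟩
    · exact Or.inr ⟨a, b⟩
    · exact absurd (g.1.injective (a.trans b.symm)) (by simp)
  have hnorm : ∀ g ∈ P, ∀ x ∈ Cfsg.Spor.M22, g.1 * x * g.1⁻¹ ∈ Cfsg.Spor.M22 := by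
    intro g hg x hx
    obtain ⟨hxM, hx1, hx2⟩ := mem_m22.mp hx
    refine mem_m22.mpr ⟨mul_mem (mul_mem g.2 hxM) (inv_mem g.2), ?_⟩
    rcases hpair g hg with ⟨a, b⟩ | ⟨a, b⟩ <;>
      simp [Equiv.Perm.mul_apply, Equiv.Perm.inv_def, g.1.symm_apply_eq.mpr a.symm,
        g.1.symm_apply_eq.mpr b.symm, hx1, hx2, a, b]
  let aut : P → MulAut ↥Cfsg.Spor.M22 := fun g =>
    { toFun := fun x => ⟨g.1.1 * x.1 * g.1.1⁻¹, hnorm g.1 g.2 x.1 x.2⟩
      invFun := fun x => ⟨g.1.1⁻¹ * x.1 * g.1.1, by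
        have := hnorm g.1⁻¹ (inv_mem g.2) x.1 x.2
        rwa [Subgroup.coe_inv, inv_inv] at this⟩
      left_inv := fun x => Subtype.ext (show g.1.1⁻¹ * (g.1.1 * x.1 * g.1.1⁻¹) * g.1.1 = x.1 by group)
      right_inv := fun x => Subtype.ext (show g.1.1 * (g.1.1⁻¹ * x.1 * g.1.1) * g.1.1⁻¹ = x.1 by group)
      map_mul' := fun x y => Subtype.ext
        (show g.1.1 * (x.1 * y.1) * g.1.1⁻¹ = g.1.1 * x.1 * g.1.1⁻¹ * (g.1.1 * y.1 * g.1.1⁻¹) by group) }
  let ψ : P →* MulAut ↥Cfsg.Spor.M22 := MonoidHom.mk' aut fun a b => MulEquiv.ext fun x => Subtype.ext (by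
    show a.1.1 * b.1.1 * x.1 * (a.1.1 * b.1.1)⁻¹ = a.1.1 * (b.1.1 * x.1 * b.1.1⁻¹) * a.1.1⁻¹
    group)
  have hinj : Function.Injective ψ := by
    rw [injective_iff_map_eq_one]
    intro g hg
    have hcomm : ∀ x ∈ Cfsg.Spor.M22, g.1.1 * x = x * g.1.1 := fun x hx => by
      have := congrArg (fun f : MulAut ↥Cfsg.Spor.M22 => (f ⟨x, hx⟩).1) hg
      exact mul_inv_eq_iff_eq_mul.mp this
    refine Subtype.ext (eq_one_of_small (S := {none, some 0}) (Finset.card_le_two.trans (by norm_num)) fun y hy => ?_)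
    simp only [Finset.mem_insert, Finset.mem_singleton, not_or] at hy
    by_contra hne
    set y' := g.1.1 y with hy'
    have hy'out : y' ≠ none ∧ y' ≠ some 0 := by
      rcases hpair g.1 g.2 with ⟨a, b⟩ | ⟨a, b⟩
      · exact ⟨fun e => hy.1 (g.1.1.injective (e.trans a.symm)), fun e => hy.2 (g.1.1.injective (e.trans b.symm))⟩
      · exact ⟨fun e => hy.2 (g.1.1.injective (e.trans b.symm)), fun e => hy.1 (g.1.1.injective (e.trans a.symm))⟩
    obtain ⟨w, -, hw⟩ : ∃ w ∈ (Finset.univ : Finset GolayPt), w ∉ ({none, some 0, y, y'} : Finset GolayPt) :=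
      Finset.exists_mem_notMem_of_card_lt_card (lt_of_le_of_lt Finset.card_le_four
        (by rw [Finset.card_univ, card_golayPt]; norm_num))
    simp only [Finset.mem_insert, Finset.mem_singleton, not_or] at hw
    obtain ⟨h, h1, h2⟩ := exists_stab_pair_two (p := none) (q := some 0) (by simp) hy hy'out hy ⟨hw.1, hw.2.1⟩
      (Ne.symm hne) (Ne.symm hw.2.2.1)
    have h1' : h.1.1 y = y := h1
    have h2' : h.1.1 y' = w := h2
    have hc := congrArg (fun f : Equiv.Perm GolayPt => f y)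
      (hcomm h.1.1 (mem_m22.mpr ⟨h.1.2, h.2.1, h.2.2⟩))
    simp only [Equiv.Perm.mul_apply, h1', ← hy', h2'] at hc
    exact hw.2.2.2 hc.symm
  have hcard : Nat.card P = 887040 := by
    have h := card_stab_pts ({none, some 0} : Finset GolayPt) (Finset.card_le_two.trans (by norm_num))
    rw [Finset.card_pair (by simp : (none : GolayPt) ≠ some 0), show Nat.choose 24 2 = 276 by decide, ← hP] at h
    omega
  haveI : Finite (MulAut ↥Cfsg.Spor.M22) :=
    Nat.finite_of_card_ne_zero (by rw [J4Local.card_aut_m22]; norm_num)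
  have hb : Function.Bijective ψ :=
    hinj.bijective_of_nat_card_le (by rw [hcard, J4Local.card_aut_m22])
  refine ⟨(MulEquiv.trans (MulEquiv.subgroupCongr ?_)
    ((Subgroup.equivMapOfInjective P (MulAut.conj k).toMonoidHom (MulAut.conj k).injective).symm)).trans (MulEquiv.ofBijective ψ hb)⟩
  rw [← hk, MulAction.stabilizer_smul_eq_stabilizer_map_conj]

end CfsgLib.J4CentT
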