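import Cfsg.Agent.J4Local.CentT.Invol
import Cfsg.Agent.J4Local.CentT.PairAut

/-!
The centraliser of an involution not conjugate to the distinguished one, given the unique elementary
abelian subgroup of order 2048, the complement and the two orbits.
-/

set_option autoImplicit false
set_option maxRecDepth 100000

namespace CfsgLib.J4CentT

open Cfsg CfsgLib.Golay CfsgLib.Golay.Cert MulAction
open scoped Pointwise

theorem pairNo_inj {a c a' c' : ℕ} (ha : a < 24) (hc : c < 24) (hac : a ≠ c) (ha' : a' < 24) (hc' : c' < 24)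
    (hac' : a' ≠ c') (h : pairNo a c = pairNo a' c') : ({pt a, pt c} : Finset GolayPt) = {pt a', pt c'} := by
  obtain ⟨e1, l1, v1⟩ := pts_pair ha hc hac
  obtain ⟨e2, l2, v2⟩ := pts_pair ha' hc' hac'
  set d := Nat.xor (2 ^ a) (2 ^ c) with hd
  set d' := Nat.xor (2 ^ a') (2 ^ c') with hd'
  have hm : d ^^^ word (d % 4096) = d' ^^^ word (d' % 4096) := by
    rw [← mk_cd l1 v1, ← mk_cd l2 v2]; exact congrArg mk h
  have hx : d ^^^ d' = word (d % 4096 ^^^ d' % 4096) := by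
    rw [show word (d % 4096 ^^^ d' % 4096) = word (d % 4096) ^^^ word (d' % 4096) from comb_xor rows _ _]
    calc d ^^^ d' = (d ^^^ word (d % 4096)) ^^^ (d' ^^^ word (d' % 4096)) ^^^ (word (d % 4096) ^^^ word (d' % 4096)) := by
          rw [show (d ^^^ word (d % 4096)) ^^^ (d' ^^^ word (d' % 4096)) ^^^ (word (d % 4096) ^^^ word (d' % 4096)) =
            (d ^^^ d') ^^^ ((word (d % 4096) ^^^ word (d % 4096)) ^^^ (word (d' % 4096) ^^^ word (d' % 4096))) by ac_rfl]
          simp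
      _ = word (d % 4096) ^^^ word (d' % 4096) := by rw [hm, Nat.xor_self, Nat.zero_xor]
  have hle : wt 24 (d ^^^ d') ≤ 4 := by
    rw [← card_pts, pts_xor, e1, e2]
    refine (Finset.card_union_le _ _).trans ?_
    have h1 := Finset.card_le_card (Finset.sdiff_subset (s := ({pt a, pt c} : Finset GolayPt)) (t := {pt a', pt c'}))
    have h2 := Finset.card_le_card (Finset.sdiff_subset (s := ({pt a', pt c'} : Finset GolayPt)) (t := {pt a, pt c}))
    have h3 : ({pt a, pt c} : Finset GolayPt).card ≤ 2 := Finset.card_le_two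
    have h4 : ({pt a', pt c'} : Finset GolayPt).card ≤ 2 := Finset.card_le_two
    omega
  have hlt : d % 4096 ^^^ d' % 4096 < 4096 :=
    Nat.xor_lt_two_pow (n := 12) (Nat.mod_lt _ (by norm_num)) (Nat.mod_lt _ (by norm_num))
  have h0 : wt 24 (d ^^^ d') = 0 := by
    rw [hx] at hle ⊢
    rcases weights _ hlt with w | w | w | w | w <;> omega
  rw [← card_pts, Finset.card_eq_zero, pts_xor, e1, e2] at h0
  exact symmDiff_eq_bot.mp h0

variable {G : Type*} [Group G] [Finite G] {z : G}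

theorem Fr.pair_stab (F : Fr z) {a c : ℕ} (hc : c < 24) (hac : a < c) (σ : M24) :
    actG σ (pairNo a c) = pairNo a c ↔ σ ∈ stabilizer M24 ({pt a, pt c} : Finset GolayPt) := by
  have ha : a < 24 := by omega
  obtain ⟨e, hl, hv⟩ := pts_pair ha hc hac.ne
  have hne : pt a ≠ pt c := fun h => hac.ne (by rw [← idx_pt a ha, h, idx_pt c hc])
  have hpq : idx (σ.1 (pt a)) ≠ idx (σ.1 (pt c)) := fun h => hne (σ.1.injective (idx_injective h))
  obtain ⟨e', hl', -⟩ := pts_pair (idx_lt (σ.1 (pt a))) (idx_lt (σ.1 (pt c))) hpq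
  rw [pt_idx, pt_idx] at e'
  have himg : σ • ({pt a, pt c} : Finset GolayPt) = {σ.1 (pt a), σ.1 (pt c)} := by
    rw [smul_finset_eq_image, Finset.image_insert, Finset.image_singleton]
  have hperm : permF (toList σ.1) (Nat.xor (2 ^ a) (2 ^ c)) =
      Nat.xor (2 ^ idx (σ.1 (pt a))) (2 ^ idx (σ.1 (pt c))) := by
    refine pts_inj (permF_lt _ _) hl' ?_
    rw [pts_permF, e, e', Finset.image_insert, Finset.image_singleton]
  have hact : actG σ (pairNo a c) = pairNo (idx (σ.1 (pt a))) (idx (σ.1 (pt c))) := by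
    rw [pairNo, actG_cd σ hl hv, hperm]; rfl
  rw [hact, mem_stabilizer_iff, himg]
  constructor
  · intro h
    have := pairNo_inj (idx_lt _) (idx_lt _) hpq ha hc hac.ne h
    rwa [pt_idx, pt_idx] at this
  · intro h
    rw [pairNo, pairNo, pts_inj hl' hl (by rw [e', e]; exact h)]

/-- The centraliser of a pair sum. -/
theorem Fr.pair_centralizer (F : Fr z) {a c : ℕ} (hc : c < 24) (hac : a < c) :
    ∃ V K : Subgroup G, V ≤ Subgroup.centralizer ({F.b (pairNo a c)} : Set G) ∧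
      K ≤ Subgroup.centralizer ({F.b (pairNo a c)} : Set G) ∧
      Subgroup.centralizer ({F.b (pairNo a c)} : Set G) ≤ Subgroup.normalizer (V : Set G) ∧
      Cfsg.IsElementaryAbelian 2 V ∧ Nat.card ↥V = 2 ^ 11 ∧ K ⊓ V = ⊥ ∧
      K ⊔ V = Subgroup.centralizer ({F.b (pairNo a c)} : Set G) ∧ Nonempty (↥K ≃* MulAut ↥Cfsg.Spor.M22) := by
  have hp : pairNo a c < 2048 := cd_lt _
  set t := F.b (pairNo a c) with ht
  set St := stabilizer M24 ({pt a, pt c} : Finset GolayPt) with hSt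
  have hVC : F.V ≤ Subgroup.centralizer ({t} : Set G) := by
    intro v hv
    obtain ⟨i, hi, rfl⟩ := F.b_surj v hv
    exact Subgroup.mem_centralizer_singleton_iff.mpr (F.b_comm hi hp)
  have hKC : St.map F.kap ≤ Subgroup.centralizer ({t} : Set G) := by
    rintro _ ⟨σ, hσ, rfl⟩
    refine Subgroup.mem_centralizer_singleton_iff.mpr ?_
    rw [F.swap σ hp, (F.pair_stab hc hac σ).mpr hσ]
  refine ⟨F.V, St.map F.kap, hVC, hKC, (F.pair_out c hc a hac).2, F.elem, F.card_V, ?_, ?_, ?_⟩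
  · refine (Subgroup.eq_bot_iff_forall _).mpr ?_
    rintro _ ⟨⟨σ, -, rfl⟩, hv⟩
    rw [F.kap_disj σ hv, map_one]
  · refine le_antisymm (sup_le hKC hVC) fun g hg => ?_
    obtain ⟨i, hi, σ, rfl⟩ := F.form ((F.pair_out c hc a hac).2 hg)
    refine mul_mem (Subgroup.mem_sup_right (F.b_mem i hi)) (Subgroup.mem_sup_left ⟨σ, ?_, rfl⟩)
    exact (F.pair_stab hc hac σ).mp ((F.comm_iff σ hi hp).mp (Subgroup.mem_centralizer_singleton_iff.mp hg))
  · obtain ⟨ψ⟩ := pair_stab_aut (p := pt a) (q := pt c) fun h =>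
      hac.ne (by rw [← idx_pt a (by omega), h, idx_pt c hc])
    exact ⟨(St.equivMapOfInjective F.kap F.kap_inj).symm.trans ψ⟩

/-- The 2-core at the chosen element. -/
theorem exists_eData (hJ : Cfsg.IsOfJankoFourTypeAt z) {w : G} (hw : IsConj z w) : ∃ E : Subgroup G, EData w E := by
  obtain ⟨P, -, -, hcard, hcen, ⟨N, -, -, -, -, ⟨_, ⟨iso⟩⟩, -⟩, -⟩ := hJ
  obtain ⟨g, hg⟩ := isConj_iff.mp hw
  set H := Subgroup.centralizer ({z} : Set G) with hH
  set E := Cfsg.twoCoreOfCentralizer z with hE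
  have hEH : E ≤ H := Subgroup.map_subtype_le _
  haveI : Fact (Nat.Prime 11) := ⟨by norm_num⟩
  have hHn : ∀ h ∈ H, ∀ x ∈ E, h * x * h⁻¹ ∈ E := by
    rintro h hh _ ⟨x, hx, rfl⟩
    exact ⟨⟨h, hh⟩ * x * ⟨h, hh⟩⁻¹, (inferInstance : (Cfsg.pCore 2 ↥H).Normal).conj_mem x hx _, rfl⟩
  let φ := MulAut.conj g
  have hφz : φ z = w := hg
  have hmemC : ∀ y, y ∈ Subgroup.centralizer ({w} : Set G) ↔ φ.symm y ∈ H := by
    intro y
    rw [hH, Subgroup.mem_centralizer_singleton_iff, Subgroup.mem_centralizer_singleton_iff, ← hφz]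
    constructor
    · intro h; exact φ.injective (by rw [map_mul, map_mul, φ.apply_symm_apply]; exact h)
    · intro h; simpa using congrArg φ h
  refine ⟨E.map φ.toMonoidHom, ⟨?_, ?_, ?_, ?_, ?_⟩⟩
  · rw [Subgroup.card_map_of_injective φ.injective]; exact hcard
  · rintro _ ⟨x, hx, rfl⟩
    exact (hmemC _).mpr (by simpa using hEH hx)
  · intro y hy
    refine Subgroup.mem_normalizer_iff.mpr fun x => ?_
    have key : ∀ y ∈ Subgroup.centralizer ({w} : Set G), ∀ x ∈ E.map φ.toMonoidHom, y * x * y⁻¹ ∈ E.map φ.toMonoidHom := by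
      rintro y hy _ ⟨e, he, rfl⟩
      refine ⟨φ.symm y * e * (φ.symm y)⁻¹, hHn _ ((hmemC y).mp hy) e he, ?_⟩
      show φ _ = _
      simp
    refine ⟨key y hy x, fun h => ?_⟩
    have := key y⁻¹ (inv_mem hy) _ h
    simpa [mul_assoc] using this
  · rintro y ⟨hy, hyc⟩
    refine ⟨φ.symm y, hcen ⟨(hmemC y).mp hy, Subgroup.mem_centralizer_iff.mpr fun e he => φ.injective ?_⟩, φ.apply_symm_apply y⟩
    rw [map_mul, map_mul, φ.apply_symm_apply]
    exact Subgroup.mem_centralizer_iff.mp hyc _ ⟨e, he, rfl⟩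
  · have h11 : (11 : ℕ) ∣ Nat.card H := by
      rw [Subgroup.card_eq_card_quotient_mul_card_subgroup (N.subgroupOf H), Nat.card_congr iso.toEquiv,
        J4Local.card_aut_m22]
      exact dvd_mul_of_dvd_left (by norm_num) _
    obtain ⟨c, hc⟩ := exists_prime_orderOf_dvd_card' (G := H) 11 h11
    exact ⟨φ c, (hmemC _).mpr (by simp), by rw [MulEquiv.orderOf_eq, Subgroup.orderOf_coe, hc]⟩

/-- The centraliser of the second involution. -/
theorem second_centralizer [IsSimpleGroup G] (hJ : Cfsg.IsOfJankoFourTypeAt z) (hU : UniqueEleven G)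
    (hcomp : ∀ V : Subgroup G, Cfsg.IsElementaryAbelian 2 V → Nat.card ↥V = 2 ^ 11 →
      ∃ K : Subgroup G, K ≤ Subgroup.normalizer (V : Set G) ∧ K ⊓ V = ⊥ ∧
        K ⊔ V = Subgroup.normalizer (V : Set G) ∧ Cfsg.Spor.IsoM24 ↥K)
    (horb : ∀ V : Subgroup G, Cfsg.IsElementaryAbelian 2 V → Nat.card ↥V = 2 ^ 11 →
      ∃ z' t : G, z' ∈ V ∧ t ∈ V ∧ t ≠ 1 ∧ IsConj z z' ∧ ¬ IsConj z t ∧
        Set.ncard {v : G | ∃ n ∈ Subgroup.normalizer (V : Set G), n * z' * n⁻¹ = v} = 1771 ∧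
        Set.ncard {v : G | ∃ n ∈ Subgroup.normalizer (V : Set G), n * t * n⁻¹ = v} = 276 ∧
        Subgroup.centralizer ({t} : Set G) ≤ Subgroup.normalizer (V : Set G))
    (t : G) (ht : orderOf t = 2) (hnc : ¬ IsConj z t) :
    ∃ V K : Subgroup G, V ≤ Subgroup.centralizer ({t} : Set G) ∧ K ≤ Subgroup.centralizer ({t} : Set G) ∧
    Subgroup.centralizer ({t} : Set G) ≤ Subgroup.normalizer (V : Set G) ∧ Cfsg.IsElementaryAbelian 2 V ∧
    Nat.card ↥V = 2 ^ 11 ∧ K ⊓ V = ⊥ ∧ K ⊔ V = Subgroup.centralizer ({t} : Set G) ∧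
    Nonempty (↥K ≃* MulAut ↥Cfsg.Spor.M22) := by
  obtain ⟨T⟩ := (inferInstance : Nonempty (Sylow 2 G))
  obtain ⟨V0, ⟨-, hV, hcard⟩, -⟩ := hU T
  obtain ⟨F⟩ := exists_fr (z := z) V0 hV hcard (hcomp V0 hV hcard) (horb V0 hV hcard)
  obtain ⟨E, hE⟩ := exists_eData hJ F.zconj
  rcases hE.involutions hU ht with h | ⟨c, hc, a, hac, h⟩
  · exact absurd (F.zconj.trans h.symm) hnc
  obtain ⟨g, hg⟩ := isConj_iff.mp h.symm
  obtain ⟨V, K, h1, h2, h3, h4, h5, h6, h7, ⟨h8⟩⟩ := F.pair_centralizer hc hac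
  let φ := MulAut.conj g
  have hC : (Subgroup.centralizer ({F.b (pairNo a c)} : Set G)).map φ.toMonoidHom = Subgroup.centralizer ({t} : Set G) := by
    ext y
    rw [Subgroup.mem_map_equiv, Subgroup.mem_centralizer_singleton_iff, Subgroup.mem_centralizer_singleton_iff]
    have e : φ (F.b (pairNo a c)) = t := hg
    rw [← e]
    constructor
    · intro h; simpa using congrArg φ h
    · intro h; exact φ.injective (by rw [map_mul, map_mul, φ.apply_symm_apply]; exact h)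
  refine ⟨V.map φ.toMonoidHom, K.map φ.toMonoidHom, hC ▸ Subgroup.map_mono h1, hC ▸ Subgroup.map_mono h2, ?_, ?_, ?_, ?_, ?_,
    ⟨(K.equivMapOfInjective φ.toMonoidHom φ.injective).symm.trans h8⟩⟩
  · rw [← hC]
    rintro _ ⟨y, hy, rfl⟩
    refine Subgroup.mem_normalizer_iff.mpr fun x => ?_
    have hn := Subgroup.mem_normalizer_iff.mp (h3 hy) (φ.symm x)
    show x ∈ V.map φ.toMonoidHom ↔ φ y * x * (φ y)⁻¹ ∈ V.map φ.toMonoidHom
    rw [Subgroup.mem_map_equiv, Subgroup.mem_map_equiv, map_mul, map_mul, map_inv, φ.symm_apply_apply]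
    exact hn
  · refine ⟨⟨⟨?_⟩⟩, ?_⟩
    · rintro ⟨_, x, hx, rfl⟩ ⟨_, y, hy, rfl⟩
      refine Subtype.ext ?_
      show φ x * φ y = φ y * φ x
      rw [← map_mul, ← map_mul, show x * y = y * x from congrArg Subtype.val (h4.1.is_comm.comm ⟨x, hx⟩ ⟨y, hy⟩)]
    · rintro _ ⟨x, hx, rfl⟩
      rw [← map_pow, h4.2 x hx, map_one]
  · rw [Subgroup.card_map_of_injective φ.injective, h5]
  · rw [← Subgroup.map_inf _ _ _ φ.injective, h6, Subgroup.map_bot]
  · rw [← Subgroup.map_sup, h7, hC]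

end CfsgLib.J4CentT
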