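import Cfsg.Agent.Golay.InvCount
import Cfsg.Agent.Golay.StabShape

/-!
Arithmetic of even sets of points modulo the code, as numbers below 2048.
-/

set_option autoImplicit false

namespace CfsgLib.J4CentT

open Cfsg CfsgLib.Golay CfsgLib.Golay.Cert

/-- The even mask of a number below 2048. -/
def mk (i : ℕ) : ℕ := Nat.xor (Nat.shiftLeft i 12) (Nat.shiftLeft (wt 11 i % 2) 23)

/-- The number of a mask. -/
def cd (d : ℕ) : ℕ := Nat.shiftRight (Nat.xor d (word (d % 4096))) 12 % 2048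

/-- The action of a position list. -/
def act (L : List ℕ) (i : ℕ) : ℕ := cd (permF L (mk i))

theorem forall_lt_2048 {P : ℕ → Prop} (h : ∀ a < 32, ∀ b < 64, P (64 * a + b)) : ∀ i < 2048, P i := fun i hi => by
  have := h (i / 64) (by omega) (i % 64) (Nat.mod_lt _ (by norm_num))
  rwa [Nat.div_add_mod] at this

theorem mk_spec : ∀ i < 2048, wt 24 (mk i) % 2 = 0 ∧ mk i < 2 ^ 24 ∧ mk i % 4096 = 0 ∧
    Nat.shiftRight (mk i) 12 % 2048 = i := forall_lt_2048 (by decide +kernel)

theorem mk_high : ∀ h < 4096, wt 24 (Nat.shiftLeft h 12) % 2 = 0 → mk (h % 2048) = Nat.shiftLeft h 12 :=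
  forall_lt_4096 (by decide +kernel)

theorem word_zero : word 0 = 0 := by decide +kernel

theorem pts_xor (a b : ℕ) : pts (a ^^^ b) = symmDiff (pts a) (pts b) := by
  ext p
  simp only [pts, Finset.mem_filter, Finset.mem_univ, true_and, Nat.testBit_xor, Finset.mem_symmDiff]
  cases a.testBit (idx p) <;> cases b.testBit (idx p) <;> simp

theorem wt_xor_mod (a b : ℕ) : wt 24 (a ^^^ b) % 2 = (wt 24 a + wt 24 b) % 2 := by
  rw [← card_pts, ← card_pts, ← card_pts, pts_xor]
  have h1 : (symmDiff (pts a) (pts b)).card = (pts a \ pts b).card + (pts b \ pts a).card :=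
    Finset.card_union_of_disjoint disjoint_sdiff_sdiff
  have h2 := Finset.card_sdiff_add_card_inter (pts a) (pts b)
  have h3 := Finset.card_sdiff_add_card_inter (pts b) (pts a)
  rw [Finset.inter_comm (pts b) (pts a)] at h3
  omega

theorem word_even (c : ℕ) (hc : c < 4096) : wt 24 (word c) % 2 = 0 := by
  rcases weights c hc with h | h | h | h | h <;> omega

theorem cd_lt (d : ℕ) : cd d < 2048 := Nat.mod_lt _ (by norm_num)

theorem act_lt (L : List ℕ) (i : ℕ) : act L i < 2048 := cd_lt _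

/-- Every even mask differs from a standard one by a word. -/
theorem mk_cd {d : ℕ} (hd : d < 2 ^ 24) (he : wt 24 d % 2 = 0) : mk (cd d) = d ^^^ word (d % 4096) := by
  have hc : d % 4096 < 4096 := Nat.mod_lt _ (by norm_num)
  set m := d ^^^ word (d % 4096) with hm
  have hm0 : m % 4096 = 0 := by
    rw [hm, show (4096 : ℕ) = 2 ^ 12 from rfl, Nat.xor_mod_two_pow, show (2 : ℕ) ^ 12 = 4096 from rfl,
      word_mod _ hc, Nat.xor_self]
  have hml : m < 2 ^ 24 := Nat.xor_lt_two_pow hd (word_lt _ hc)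
  have hme : wt 24 m % 2 = 0 := by
    have h1 := wt_xor_mod d (word (d % 4096))
    have h2 := word_even _ hc
    rw [← hm] at h1; omega
  have he' : Nat.shiftLeft (m / 4096) 12 = m := by
    show (m / 4096) <<< 12 = m
    rw [Nat.shiftLeft_eq]; omega
  have h := mk_high (m / 4096) (by omega) (by rw [he']; exact hme)
  rw [he'] at h
  have hcd : cd d = m / 4096 % 2048 := by
    show Nat.shiftRight m 12 % 2048 = _
    rw [show Nat.shiftRight m 12 = m >>> 12 from rfl, Nat.shiftRight_eq_div_pow]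
  rw [hcd, h]

theorem cd_xor_mk {i j : ℕ} (hi : i < 2048) (hj : j < 2048) : cd (mk i ^^^ mk j) = i ^^^ j := by
  obtain ⟨-, -, hi0, hi'⟩ := mk_spec i hi
  obtain ⟨-, -, hj0, hj'⟩ := mk_spec j hj
  have h0 : (mk i ^^^ mk j) % 4096 = 0 := by
    rw [show (4096 : ℕ) = 2 ^ 12 from rfl, Nat.xor_mod_two_pow, show (2 : ℕ) ^ 12 = 4096 from rfl, hi0, hj0]; rfl
  show Nat.shiftRight (Nat.xor (mk i ^^^ mk j) (word ((mk i ^^^ mk j) % 4096))) 12 % 2048 = _
  rw [h0, word_zero]
  show ((mk i ^^^ mk j) ^^^ 0) >>> 12 % 2048 = _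
  rw [Nat.xor_zero, Nat.shiftRight_xor_distrib, show (2048 : ℕ) = 2 ^ 11 from rfl, Nat.xor_mod_two_pow,
    show (2 : ℕ) ^ 11 = 2048 from rfl]
  exact congrArg₂ (· ^^^ ·) hi' hj'

theorem cd_mk {i : ℕ} (hi : i < 2048) : cd (mk i) = i := by
  have h0 : mk 0 = 0 := by decide +kernel
  have := cd_xor_mk hi (show 0 < 2048 by norm_num)
  rwa [h0, Nat.xor_zero, Nat.xor_zero] at this

end CfsgLib.J4CentT
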