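import Cfsg.Agent.J4Local.CentT.Calc
import Cfsg.Agent.J4Local.CentT.Data

/-!
Checks of the tables.
-/

set_option autoImplicit false
set_option maxRecDepth 100000

namespace CfsgLib.J4CentT

open Cfsg CfsgLib.Golay CfsgLib.Golay.Cert

/-- The element with a given number. -/
def rEl (n : ℕ) : List ℕ := rTab.getD n []

/-- Membership in the subgroup of order 128. -/
def inW (i : ℕ) : Bool := wMask.testBit i

/-- The members fixed by a list. -/
def fixW (L : List ℕ) : List ℕ := wList.filter fun i => act L i == i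

/-- The generators of the sextet stabiliser that are used. -/
def stGen : List (List ℕ) := [sextW] ++ sextSw ++ sextNGens

/-- Check of a coset table entry. -/
def cosetOK (n : ℕ) : Bool :=
  let e := cosetTab.getD n ([], [], [])
  let r := rEl n
  e.2.1.map (fun j => Nat.xor j (act r j)) == e.1 && e.2.1.all (fun j => decide (j < 2048)) &&
    (fixW r).length == 64 && (fixW r).all fun i => e.2.2.any fun q => e.1.contains (Nat.xor i q)

/-- Check of a forest entry against the earlier ones. -/
def stepOK (seen : List (ℕ × ℕ × ℕ)) (s : ℕ × ℕ × ℕ × ℕ × ℕ × ℕ × ℕ) : Bool :=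
  match s with
  | (n, q, k, m, q', g, j) =>
    decide (0 < n) && decide (n < 64) && decide (k < 4) && (rootTab.getD k (0, 0) == (n, q) ||
      (seen.contains (m, q', k) && decide (g < stGen.length) && decide (j < 2048) &&
        compL (stGen.getD g []) (rEl m) == compL (rEl n) (stGen.getD g []) &&
        q == Nat.xor (act (stGen.getD g []) q') (Nat.xor j (act (rEl n) j))))

/-- Check of the forest. -/
def forestOK : List (ℕ × ℕ × ℕ) → List (ℕ × ℕ × ℕ × ℕ × ℕ × ℕ × ℕ) → Bool
  | _, [] => true
  | seen, s :: ss => stepOK seen s && forestOK ((s.1, s.2.1, s.2.2.1) :: seen) ss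

/-- Repeated squaring. -/
def sqn : ℕ → List ℕ → List ℕ
  | 0, a => a
  | n + 1, a => sqn n (compL a a)

/-- The states of one class. -/
def cls (k : ℕ) : List (ℕ × ℕ) :=
  (forest.filter fun s => s.2.2.1 == k).flatMap fun s =>
    (cosetTab.getD s.1 ([], [], [])).1.map fun c => (s.1, Nat.xor s.2.1 c)

/-- The numbers occurring in a class. -/
def clsNum (k : ℕ) : List ℕ := ((forest.filter fun s => s.2.2.1 == k).map fun s => s.1).dedup

theorem ck_tab : rTab = elsOf sextNGens ∧ rTab.getD 0 [] = List.range 24 := by decide +kernel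

theorem ck_gens : ∀ g ∈ stGen, genOK g = true ∧ same g sStd sStd = true := by decide +kernel

theorem ck_wList : wList.Nodup ∧ wList.length = 128 ∧ ∀ w ∈ wList, w < 2048 ∧ inW w = true := by decide +kernel

theorem ck_wMask : ∀ i < 2048, inW i = true → i ∈ wList := forall_lt_2048 (by decide +kernel)

theorem ck_wCert : ∀ n < 128, (wCert.getD n (0, 0)).1 < 64 ∧ (wCert.getD n (0, 0)).2 < 2048 ∧
    Nat.xor (wCert.getD n (0, 0)).2 (act (rEl (wCert.getD n (0, 0)).1) (wCert.getD n (0, 0)).2) =
      wList.getD n 0 := by decide +kernel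

theorem ck_coset : ∀ n < 64, 0 < n → cosetOK n = true := by decide +kernel

theorem ck_forest : forestOK [] forest = true := by decide +kernel

theorem ck_cover : ∀ n < 64, 0 < n → ∀ q ∈ (cosetTab.getD n ([], [], [])).2.2,
    ∃ s ∈ forest, s.1 = n ∧ s.2.1 = q := by decide +kernel

theorem ck_sizes : (cls 0).length = 720 ∧ (cls 1).length = 2160 ∧ (cls 2).length = 576 ∧
    (cls 3).length = 576 := by decide +kernel

theorem ck_num : (clsNum 0).length = 45 ∧ (clsNum 1).length = 45 ∧ (clsNum 2).length = 18 ∧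
    (rootTab.getD 0 (0, 0)).1 ∈ clsNum 0 ∧ (clsNum 0).all (fun n => !(clsNum 2).contains n) = true ∧
    ∀ n < 64, 0 < n → n ∈ clsNum 0 ∨ n ∈ clsNum 2 := by decide +kernel

theorem ck_sextW : ∀ i < 2048, inW (Nat.xor i (act sextW i)) = true := forall_lt_2048 (by decide +kernel)

theorem ck_fpf : ∀ n < 64, ∃ m < 64,
    compL (compL (rEl m) sextW) (compL (invL (rEl m)) (invL sextW)) = rEl n := by decide +kernel

theorem ck_ker : ∀ a ∈ sextKer, sqn 6 a = List.range 24 → a ∈ rTab := by decide +kernel

theorem ck_rEl : rTab.Nodup ∧ rTab.length = 64 ∧ (∀ g ∈ rTab, genOK g = true) := by decide +kernel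

theorem ck_roots : rootTab.length = 4 ∧ (∀ k < 4, 0 < (rootTab.getD k (0, 0)).1 ∧ (rootTab.getD k (0, 0)).1 < 64) ∧
    (rootTab.getD 0 (0, 0)).1 = (rootTab.getD 1 (0, 0)).1 ∧ (rootTab.getD 2 (0, 0)).1 = (rootTab.getD 3 (0, 0)).1 := by
  decide +kernel

theorem ck_conj : genOK conjA = true ∧ genOK conjB2 = true ∧ conjB (rEl idxA) rep2A conjA = true ∧
    conjB (rEl idxB) rep2B conjB2 = true ∧ idxA < 64 ∧ idxB < 64 ∧
    ∀ g ∈ centA, genOK g = true ∧ conjB (rEl idxA) (rEl idxA) g = true := by decide +kernel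

theorem ck_fixA : ∀ i < 2048, act (rEl idxA) i = i → ∃ g ∈ centA, inW (act g i) = true :=
  forall_lt_2048 (by decide +kernel)

theorem ck_fixB : ∀ i < 2048, act (rEl idxB) i = i → inW i = true := forall_lt_2048 (by decide +kernel)

theorem ck_zIdx : zIdx < 2048 ∧ (∀ t ∈ sStd, cd t = zIdx) ∧
    ∀ b < 24, ∀ a < b, cd (Nat.xor (2 ^ a) (2 ^ b)) ≠ zIdx := by decide +kernel

theorem ck_subsets : ∀ a b c d : Bool,
    ((if a then 720 else 0) + (if b then 2160 else 0) + (if c then 576 else 0) + (if d then 576 else 0)) % 11 = 0 →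
      (a = false ∧ b = false ∧ c = false ∧ d = false) := by decide +kernel

end CfsgLib.J4CentT
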