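import Cfsg.Agent.J4Local.CentT.Checks
import Cfsg.Agent.Golay.GivenIndex
import Cfsg.Agent.Golay.OctadStab

/-!
Coordinates on a group of order 2048 acted on by the Mathieu group on 24 points with orbits of lengths
276 and 1771: the orbit of length 276 consists of sums of pairs, and octads have sum zero.
-/

set_option autoImplicit false

namespace CfsgLib.J4CentT

open Cfsg CfsgLib.Golay CfsgLib.Golay.Cert MulAction
open scoped Pointwise

/-- The number of a pair of positions. -/
def pairNo (a b : ℕ) : ℕ := cd (Nat.xor (2 ^ a) (2 ^ b))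

theorem pts_single {a : ℕ} (ha : a < 24) : pts (2 ^ a) = {pt a} := by
  ext p
  simp only [pts, Finset.mem_filter, Finset.mem_univ, true_and, Finset.mem_singleton, Nat.testBit_two_pow,
    decide_eq_true_eq]
  exact ⟨fun h => by rw [h, pt_idx], fun h => by rw [h, idx_pt a ha]⟩

theorem pts_pair {a b : ℕ} (ha : a < 24) (hb : b < 24) (hab : a ≠ b) :
    pts (Nat.xor (2 ^ a) (2 ^ b)) = {pt a, pt b} ∧ Nat.xor (2 ^ a) (2 ^ b) < 2 ^ 24 ∧
      wt 24 (Nat.xor (2 ^ a) (2 ^ b)) % 2 = 0 := by
  have hne : pt a ≠ pt b := fun e => hab (by rw [← idx_pt a ha, e, idx_pt b hb])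
  have e : pts (Nat.xor (2 ^ a) (2 ^ b)) = {pt a, pt b} := by
    show pts (2 ^ a ^^^ 2 ^ b) = _
    rw [pts_xor, pts_single ha, pts_single hb]
    ext p
    simp only [Finset.mem_symmDiff, Finset.mem_singleton, Finset.mem_insert]
    constructor
    · rintro (⟨h, -⟩ | ⟨h, -⟩) <;> simp [h]
    · rintro (rfl | rfl)
      · exact Or.inl ⟨rfl, hne⟩
      · exact Or.inr ⟨rfl, fun e => hne e.symm⟩
  refine ⟨e, Nat.xor_lt_two_pow (Nat.pow_lt_pow_right (by norm_num) ha) (Nat.pow_lt_pow_right (by norm_num) hb), ?_⟩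
  rw [← card_pts, e, Finset.card_pair hne]

theorem rows_octads : ∀ r ∈ rows, word (r % 4096) = r ∧ wt 24 r = 8 := by decide +kernel

/-- Data of coordinates. -/
structure Cd (A : Type*) [AddCommGroup A] [MulAction M24 A] where
  /-- The element with a given number. -/
  num : ℕ → A
  surj : ∀ a, ∃ i < 2048, num i = a
  inj : ∀ i < 2048, ∀ j < 2048, num i = num j → i = j
  add : ∀ i < 2048, ∀ j < 2048, num i + num j = num (i ^^^ j)
  zero : num 0 = 0
  equiv : ∀ (g : M24), ∀ i < 2048, g • num i = num (act (toList g.1) i)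

variable {A : Type*} [AddCommGroup A] [Finite A] [MulAction M24 A]

omit [Finite A] in
theorem eq_zero_of_fixed {t z' : A} (h276 : (orbit M24 t).ncard = 276) (h1771 : (orbit M24 z').ncard = 1771)
    (hcover : ∀ a : A, a ≠ 0 → a ∈ orbit M24 t ∨ a ∈ orbit M24 z') (J : Subgroup M24) {v : A}
    (hv : ∀ g ∈ J, g • v = v) (h1 : ¬ Nat.card J ∣ 887040) (h2 : ¬ Nat.card J ∣ 138240) : v = 0 := by
  by_contra h0
  have hc : Nat.card (stabilizer M24 v) * (orbit M24 v).ncard = 244823040 := by
    rw [← index_stabilizer, Subgroup.card_mul_index, card_M24]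
  have hd : Nat.card J ∣ Nat.card (stabilizer M24 v) := Subgroup.card_dvd_of_le hv
  rcases hcover v h0 with h | h
  · rw [MulAction.orbit_eq_iff.mpr h, h276] at hc
    exact h1 (by rwa [show Nat.card (stabilizer M24 v) = 887040 by omega] at hd)
  · rw [MulAction.orbit_eq_iff.mpr h, h1771] at hc
    exact h2 (by rwa [show Nat.card (stabilizer M24 v) = 138240 by omega] at hd)

open Classical in
theorem exists_cd (hA : Nat.card A = 2048) (hself : ∀ a : A, a + a = 0)
    (hsmul : ∀ (g : M24) (a b : A), g • (a + b) = g • a + g • b) {t z' : A}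
    (h276 : (orbit M24 t).ncard = 276) (h1771 : (orbit M24 z').ncard = 1771)
    (hcover : ∀ a : A, a ≠ 0 → a ∈ orbit M24 t ∨ a ∈ orbit M24 z') :
    ∃ C : Cd A, C.num zIdx ∈ orbit M24 z' ∧
      ∀ x, x ∈ orbit M24 t ↔ ∃ b < 24, ∃ a < b, x = C.num (pairNo a b) := by
  let hom : M24 → (A →+ A) := fun g => AddMonoidHom.mk' (fun a => g • a) (hsmul g)
  have smul_zero' : ∀ g : M24, g • (0 : A) = 0 := fun g => (hom g).map_zero
  have smul_sum' : ∀ (g : M24) (T : Finset (Finset GolayPt)) (F : Finset GolayPt → A),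
      g • (∑ x ∈ T, F x) = ∑ x ∈ T, g • F x := fun g T F => map_sum (hom g) F T
  have smul_sumP : ∀ (g : M24) (T : Finset GolayPt) (F : GolayPt → A),
      g • (∑ x ∈ T, F x) = ∑ x ∈ T, g • F x := fun g T F => map_sum (hom g) F T
  have hidx : (stabilizer M24 t).index = 276 := by rw [index_stabilizer, h276]
  obtain ⟨s0, hs0, hst⟩ := index_276 hidx
  let f : Finset GolayPt → A := fun s => if h : ∃ g : M24, g • s0 = s then h.choose • t else 0
  have hwd : ∀ (g : M24), f (g • s0) = g • t := by
    intro g
    have h : ∃ g' : M24, g' • s0 = g • s0 := ⟨g, rfl⟩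
    have hm : g⁻¹ * h.choose ∈ stabilizer M24 s0 := mem_stabilizer_iff.mpr (by
      rw [mul_smul, h.choose_spec, inv_smul_smul])
    rw [← hst, mem_stabilizer_iff, mul_smul, inv_smul_eq_iff] at hm
    simp only [f, dif_pos h]
    exact hm
  have hpre : ∀ s : Finset GolayPt, s.card = 2 → ∃ g : M24, g • s0 = s := fun s hs =>
    exists_map_card (hs0.trans hs.symm) (by omega)
  have hf : ∀ (g : M24) (s : Finset GolayPt), s.card = 2 → g • f s = f (g • s) := by
    intro g s hs
    obtain ⟨k, rfl⟩ := hpre s hs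
    rw [hwd, ← mul_smul, ← mul_smul, hwd]
  have hf_orb : ∀ s : Finset GolayPt, s.card = 2 → f s ∈ orbit M24 t := fun s hs => by
    obtain ⟨k, rfl⟩ := hpre s hs
    rw [hwd]; exact mem_orbit t k
  let D : GolayPt → GolayPt → A := fun a b => if a = b then 0 else f {a, b}
  have Dself : ∀ a, D a a = 0 := fun a => if_pos rfl
  have Dcomm : ∀ a b, D a b = D b a := fun a b => by
    by_cases h : a = b
    · rw [h]
    · simp only [D, if_neg h, if_neg (Ne.symm h), Finset.pair_comm]
  have Dsmul : ∀ (g : M24) a b, g • D a b = D (g • a) (g • b) := by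
    intro g a b
    by_cases h : a = b
    · subst h; rw [Dself, Dself, smul_zero']
    · simp only [D, if_neg h, if_neg fun e => h (smul_left_cancel g e)]
      rw [hf g _ (Finset.card_pair h)]
      congr 1
      ext x
      simp [Finset.mem_smul_finset, eq_comm]
  have Dadd : ∀ a b c, D a b + D b c = D a c := by
    intro a b c
    by_cases hab : a = b
    · subst hab; rw [Dself, zero_add]
    by_cases hbc : b = c
    · subst hbc; rw [Dself, add_zero]
    by_cases hac : a = c
    · subst hac; rw [Dcomm b a, hself, Dself]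
    have hR : ({a, b, c} : Finset GolayPt).card = 3 := Finset.card_eq_three.mpr ⟨a, b, c, hab, hac, hbc, rfl⟩
    set R : Finset GolayPt := {a, b, c} with hRdef
    have hsum : ∑ s ∈ R.powersetCard 2, f s = D a b + D b c + D a c := by
      have e : R.powersetCard 2 = {{a, b}, {b, c}, {a, c}} := by
        refine (Finset.eq_of_subset_of_card_le ?_ ?_).symm
        · intro s hs
          simp only [Finset.mem_insert, Finset.mem_singleton] at hs
          rcases hs with rfl | rfl | rfl <;>
            refine Finset.mem_powersetCard.mpr ⟨by simp [hRdef, Finset.subset_iff], ?_⟩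
          exacts [Finset.card_pair hab, Finset.card_pair hbc, Finset.card_pair hac]
        · rw [Finset.card_powersetCard, hR, show Nat.choose 3 2 = 3 by decide]
          refine le_of_eq (Finset.card_eq_three.mpr ⟨_, _, _, ?_, ?_, ?_, rfl⟩).symm
          · intro e; have := e ▸ (Finset.mem_insert_self a {b} : a ∈ ({a, b} : Finset GolayPt)); simp [hab, hac] at this
          · intro e
            have := e ▸ (Finset.mem_insert_of_mem (Finset.mem_singleton_self b) : b ∈ ({a, b} : Finset GolayPt))
            simp [Ne.symm hab, hbc] at this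
          · intro e
            have := e ▸ (Finset.mem_insert_self b {c} : b ∈ ({b, c} : Finset GolayPt))
            simp [Ne.symm hab, hbc] at this
      have n1 : ({a, b} : Finset GolayPt) ∉ ({{b, c}, {a, c}} : Finset (Finset GolayPt)) := by
        simp only [Finset.mem_insert, Finset.mem_singleton, not_or]
        constructor
        · intro e; have := e ▸ (Finset.mem_insert_self a {b} : a ∈ ({a, b} : Finset GolayPt)); simp [hab, hac] at this
        · intro e
          have := e ▸ (Finset.mem_insert_of_mem (Finset.mem_singleton_self b) : b ∈ ({a, b} : Finset GolayPt))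
          simp [Ne.symm hab, hbc] at this
      have n2 : ({b, c} : Finset GolayPt) ≠ {a, c} := by
        intro e
        have := e ▸ (Finset.mem_insert_self b {c} : b ∈ ({b, c} : Finset GolayPt))
        simp [Ne.symm hab, hbc] at this
      rw [e, Finset.sum_insert n1, Finset.sum_pair n2, ← add_assoc]
      simp only [D, if_neg hab, if_neg hbc, if_neg hac]
    have h0 : ∑ s ∈ R.powersetCard 2, f s = 0 := by
      have hc3 := card_stab_pts R (by omega)
      rw [hR, show Nat.choose 24 3 = 2024 by decide] at hc3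
      have hc : Nat.card (stabilizer M24 R) = 120960 := by omega
      refine eq_zero_of_fixed h276 h1771 hcover (stabilizer M24 R) (fun g hg => ?_) (by rw [hc]; norm_num)
        (by rw [hc]; norm_num)
      rw [smul_sum']
      refine Finset.sum_bij (fun s _ => g • s) (fun s hs => ?_) (fun s _ u _ e => smul_left_cancel g e)
        (fun s hs => ⟨g⁻¹ • s, ?_, smul_inv_smul g s⟩) (fun s hs => hf g s (Finset.mem_powersetCard.mp hs).2)
      · rw [Finset.mem_powersetCard] at hs ⊢
        refine ⟨?_, by rw [Finset.card_smul_finset, hs.2]⟩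
        rw [← mem_stabilizer_iff.mp hg]
        exact Finset.smul_finset_subset_smul_finset hs.1
      · rw [Finset.mem_powersetCard] at hs ⊢
        refine ⟨?_, by rw [Finset.card_smul_finset, hs.2]⟩
        rw [← inv_smul_smul g R, mem_stabilizer_iff.mp hg]
        exact Finset.smul_finset_subset_smul_finset hs.1
    rw [hsum] at h0
    calc D a b + D b c = D a b + D b c + (D a c + D a c) := by rw [hself, add_zero]
      _ = D a c := by rw [← add_assoc, h0, zero_add]
  let o : GolayPt := pt 0
  let val : Finset GolayPt → A := fun s => ∑ a ∈ s, D o a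
  have heven : ∀ (s : Finset GolayPt) (x : A), s.card % 2 = 0 → s.card • x = 0 := fun s x hs => by
    obtain ⟨m, hm⟩ : ∃ m, s.card = m + m := ⟨s.card / 2, by omega⟩
    rw [hm, add_nsmul, hself]
  have hequiv : ∀ (g : M24) (s : Finset GolayPt), s.card % 2 = 0 → g • val s = val (g • s) := by
    intro g s hs
    show g • ∑ a ∈ s, D o a = ∑ a ∈ g • s, D o a
    rw [smul_sumP, smul_finset_eq_image, Finset.sum_image g.1.injective.injOn]
    calc ∑ a ∈ s, g • D o a = ∑ a ∈ s, (D (g • o) o + D o (g.1 a)) :=
          Finset.sum_congr rfl fun a _ => by rw [Dsmul, Dadd]; rfl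
      _ = _ := by rw [Finset.sum_add_distrib, Finset.sum_const, heven s _ hs, zero_add]
  have hsd : ∀ s u, val (symmDiff s u) = val s + val u := by
    intro s u
    have h1 : val (symmDiff s u) = val (s \ u) + val (u \ s) := Finset.sum_union disjoint_sdiff_sdiff
    have h2 : val s = val (s \ u) + val (s ∩ u) := by
      show ∑ a ∈ s, D o a = ∑ a ∈ s \ u, D o a + ∑ a ∈ s ∩ u, D o a
      rw [← Finset.sum_union (Finset.disjoint_sdiff_inter s u), Finset.sdiff_union_inter]
    have h3 : val u = val (u \ s) + val (s ∩ u) := by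
      show ∑ a ∈ u, D o a = ∑ a ∈ u \ s, D o a + ∑ a ∈ s ∩ u, D o a
      rw [Finset.inter_comm, ← Finset.sum_union (Finset.disjoint_sdiff_inter u s), Finset.sdiff_union_inter]
    rw [h1, h2, h3, add_add_add_comm, hself, add_zero]
  have hoct : ∀ o' ∈ octads, val o' = 0 := by
    intro o' ho'
    refine eq_zero_of_fixed h276 h1771 hcover (stabilizer M24 o') (fun g hg => ?_)
      (by rw [card_stab_octad ho']; norm_num) (by rw [card_stab_octad ho']; norm_num)
    rw [hequiv g o' (by rw [octad_card ho']), mem_stabilizer_iff.mp hg]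
  have hword : ∀ c, val (pts (word c)) = 0 := by
    have aux : ∀ L : List ℕ, (∀ r ∈ L, val (pts r) = 0) → ∀ c, val (pts (comb L c)) = 0 := by
      intro L
      induction L with
      | nil => intro _ c; simp [comb, pts, val]
      | cons r rs ih =>
        intro h c
        rw [comb, pts_xor, hsd, ih (fun x hx => h x (List.mem_cons_of_mem _ hx)), add_zero]
        split
        · exact h r List.mem_cons_self
        · simp [pts, val]
    refine fun c => aux rows (fun r hr => hoct _ ?_) c
    rw [mem_octads_iff]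
    exact ⟨r % 4096, Nat.mod_lt _ (by norm_num), by rw [(rows_octads r hr).1]; exact (rows_octads r hr).2,
      by rw [(rows_octads r hr).1]⟩
  let num : ℕ → A := fun i => val (pts (mk i))
  have hcd : ∀ d, d < 2 ^ 24 → wt 24 d % 2 = 0 → num (cd d) = val (pts d) := fun d hd he => by
    show val (pts (mk (cd d))) = _
    rw [mk_cd hd he, pts_xor, hsd, hword, add_zero]
  have hadd : ∀ i < 2048, ∀ j < 2048, num i + num j = num (i ^^^ j) := fun i hi j hj => by
    obtain ⟨he1, hl1, -, -⟩ := mk_spec i hi
    obtain ⟨he2, hl2, -, -⟩ := mk_spec j hj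
    have := wt_xor_mod (mk i) (mk j)
    rw [← cd_xor_mk hi hj, hcd _ (Nat.xor_lt_two_pow hl1 hl2) (by omega), pts_xor, hsd]
  have hzero : num 0 = 0 := by
    show val (pts (mk 0)) = 0
    rw [show mk 0 = word 0 by decide +kernel, hword]
  have hnum : ∀ (g : M24), ∀ i < 2048, g • num i = num (act (toList g.1) i) := by
    intro g i hi
    obtain ⟨he, hl, -, -⟩ := mk_spec i hi
    have e : wt 24 (permF (toList g.1) (mk i)) = wt 24 (mk i) := by
      rw [← card_pts, ← card_pts, pts_permF, Finset.card_image_of_injective _ g.1.injective]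
    show g • val (pts (mk i)) = num (cd (permF (toList g.1) (mk i)))
    rw [hcd _ (permF_lt _ _) (by rw [e]; exact he), pts_permF, hequiv g _ (by rw [card_pts]; exact he),
      smul_finset_eq_image]
  have hpair : ∀ a < 24, ∀ b < 24, a ≠ b → num (pairNo a b) = f {pt a, pt b} := by
    intro a ha b hb hab
    obtain ⟨hp, hl, he⟩ := pts_pair ha hb hab
    have hne : pt a ≠ pt b := fun e => hab (by rw [← idx_pt a ha, e, idx_pt b hb])
    rw [pairNo, hcd _ hl he, hp]
    show ∑ x ∈ ({pt a, pt b} : Finset GolayPt), D o x = _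
    rw [Finset.sum_pair hne, Dcomm o (pt a), Dadd]
    exact if_neg hne
  have horb : ∀ x, x ∈ orbit M24 t ↔ ∃ b < 24, ∃ a < b, x = num (pairNo a b) := by
    intro x
    constructor
    · rintro ⟨g, rfl⟩
      obtain ⟨p, q, hpq, e⟩ := Finset.card_eq_two.mp ((Finset.card_smul_finset g s0).trans hs0)
      have hne : idx p ≠ idx q := fun h => hpq (idx_injective h)
      show ∃ b < 24, ∃ a < b, g • t = _
      rw [← hwd, e]
      rcases Nat.lt_or_gt_of_ne hne with h | h
      · refine ⟨idx q, idx_lt q, idx p, h, ?_⟩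
        rw [hpair _ (idx_lt p) _ (idx_lt q) hne, pt_idx, pt_idx]
      · refine ⟨idx p, idx_lt p, idx q, h, ?_⟩
        rw [hpair _ (idx_lt q) _ (idx_lt p) (Ne.symm hne), pt_idx, pt_idx, Finset.pair_comm]
    · rintro ⟨b, hb, a, hab, rfl⟩
      rw [hpair a (by omega) b hb hab.ne]
      exact hf_orb _ (Finset.card_pair fun e => hab.ne (by rw [← idx_pt a (by omega), e, idx_pt b hb]))
  let B : AddSubgroup A :=
    { carrier := {a | ∃ i < 2048, num i = a}
      zero_mem' := ⟨0, by norm_num, hzero⟩
      add_mem' := by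
        rintro x y ⟨i, hi, rfl⟩ ⟨j, hj, rfl⟩
        exact ⟨i ^^^ j, Nat.xor_lt_two_pow (n := 11) hi hj, (hadd i hi j hj).symm⟩
      neg_mem' := by
        rintro x ⟨i, hi, rfl⟩
        exact ⟨i, hi, eq_neg_of_add_eq_zero_left (hself _)⟩ }
  have hBt : orbit M24 t ⊆ (B : Set A) := fun x hx => by
    obtain ⟨b, -, a, -, rfl⟩ := (horb x).mp hx
    exact ⟨_, cd_lt _, rfl⟩
  have ht0 : (0 : A) ∉ orbit M24 t := by
    rintro ⟨g, hg⟩
    have e : t = 0 := by
      rw [← inv_smul_smul g t]
      show g⁻¹ • (g • t) = 0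
      rw [show g • t = (0 : A) from hg, smul_zero']
    have : orbit M24 t = {0} := by
      ext x
      rw [Set.mem_singleton_iff, e]
      exact ⟨fun ⟨k, hk⟩ => hk.symm.trans (smul_zero' k), fun h => ⟨1, (one_smul M24 (0 : A)).trans h.symm⟩⟩
    rw [this, Set.ncard_singleton] at h276
    norm_num at h276
  have hBz : ∃ g : M24, g • z' ∈ B := by
    by_contra hn
    push Not at hn
    have e : (B : Set A) = insert 0 (orbit M24 t) := by
      ext x
      rw [Set.mem_insert_iff]
      refine ⟨fun hx => ?_, fun h => h.elim (fun e => e ▸ B.zero_mem) (fun h => hBt h)⟩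
      by_cases h0 : x = 0
      · exact Or.inl h0
      refine Or.inr ((hcover x h0).resolve_right ?_)
      rintro ⟨g, rfl⟩
      exact hn g hx
    have hd := AddSubgroup.card_addSubgroup_dvd_card B
    rw [← SetLike.coe_sort_coe, Nat.card_coe_set_eq, e, Set.ncard_insert_of_notMem ht0, h276, hA] at hd
    norm_num at hd
  have hinv : ∀ (g : M24) x, x ∈ B → g • x ∈ B := by
    rintro g x ⟨i, hi, rfl⟩
    exact ⟨_, act_lt _ _, (hnum g i hi).symm⟩
  have hsurj : ∀ a, ∃ i < 2048, num i = a := by
    intro a
    by_cases h0 : a = 0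
    · exact ⟨0, by norm_num, hzero.trans h0.symm⟩
    rcases hcover a h0 with h | ⟨k, rfl⟩
    · exact hBt h
    · obtain ⟨g, hg⟩ := hBz
      have := hinv (k * g⁻¹) _ hg
      rwa [mul_smul, inv_smul_smul] at this
  have hinj : ∀ i < 2048, ∀ j < 2048, num i = num j → i = j := by
    have hs : Function.Surjective fun i : Fin 2048 => num i := fun a => by
      obtain ⟨i, hi, e⟩ := hsurj a; exact ⟨⟨i, hi⟩, e⟩
    have hb : Function.Bijective fun i : Fin 2048 => num i :=
      hs.bijective_of_nat_card_le (by rw [hA, Nat.card_eq_fintype_card, Fintype.card_fin])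
    intro i hi j hj e
    exact congrArg Fin.val (hb.1 (a₁ := ⟨i, hi⟩) (a₂ := ⟨j, hj⟩) e)
  refine ⟨⟨num, hsurj, hinj, hadd, hzero, hnum⟩, ?_, horb⟩
  obtain ⟨hz, -, hne⟩ := ck_zIdx
  show num zIdx ∈ orbit M24 z'
  refine (hcover _ fun h => ?_).resolve_left fun h => ?_
  · exact absurd (hinj zIdx hz 0 (by norm_num) (h.trans hzero.symm)) (by decide +kernel)
  · obtain ⟨b, hb, a, hab, e⟩ := (horb _).mp h
    exact hne b hb a hab (hinj _ hz _ (cd_lt _) e).symm

end CfsgLib.J4CentT
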