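import Cfsg.Agent.J4Local.CentT.Checks

/-!
Reading the forest: predicates invariant under the moves are constant on each class, and the four classes
are exactly the fixed members over the non-trivial elements.
-/

set_option autoImplicit false
set_option maxRecDepth 100000

namespace CfsgLib.J4CentT

open Cfsg CfsgLib.Golay CfsgLib.Golay.Cert

/-- Invariance under the moves. -/
structure Inv (P : ℕ → ℕ → Prop) : Prop where
  shift : ∀ n < 64, ∀ i < 2048, ∀ j < 2048, (P n i ↔ P n (i ^^^ (j ^^^ act (rEl n) j)))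
  move : ∀ g ∈ stGen, ∀ n < 64, ∀ m < 64, compL g (rEl m) = compL (rEl n) g → ∀ i < 2048,
    (P m i ↔ P n (act g i))

/-- The root of a class. -/
def root (k : ℕ) : ℕ × ℕ := rootTab.getD k (0, 0)

theorem root_lt : ∀ k < 4, (root k).2 < 2048 := by decide +kernel

theorem forest_lt : ∀ s ∈ forest, s.2.1 < 2048 := by decide +kernel

theorem coset_lt : ∀ n < 64, ∀ c ∈ (cosetTab.getD n ([], [], [])).1, c < 2048 := by decide +kernel

theorem forestOK_inv {P : ℕ → ℕ → Prop} (hP : Inv P) :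
    ∀ (ss : List (ℕ × ℕ × ℕ × ℕ × ℕ × ℕ × ℕ)) (seen : List (ℕ × ℕ × ℕ)), forestOK seen ss = true →
      (∀ a ∈ seen, a.1 < 64 ∧ a.2.1 < 2048 ∧ a.2.2 < 4 ∧ (P a.1 a.2.1 ↔ P (root a.2.2).1 (root a.2.2).2)) →
      (∀ s ∈ ss, s.2.1 < 2048) →
      ∀ s ∈ ss, 0 < s.1 ∧ s.1 < 64 ∧ s.2.2.1 < 4 ∧ (P s.1 s.2.1 ↔ P (root s.2.2.1).1 (root s.2.2.1).2) := by
  intro ss
  induction ss with
  | nil => intro _ _ _ _ s hs; exact absurd hs List.not_mem_nil
  | cons s ss ih =>
    intro seen hok hseen hlt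
    rw [forestOK, Bool.and_eq_true] at hok
    obtain ⟨hs, hrest⟩ := hok
    obtain ⟨n, q, k, m, q', g, j⟩ := s
    simp only [stepOK, Bool.and_eq_true, Bool.or_eq_true, decide_eq_true_eq, beq_iff_eq,
      List.contains_iff_mem] at hs
    obtain ⟨⟨⟨h0, hn⟩, hk⟩, hstep⟩ := hs
    have hq : q < 2048 := hlt _ List.mem_cons_self
    have hPs : P n q ↔ P (root k).1 (root k).2 := by
      rcases hstep with hroot | ⟨⟨⟨⟨hmem, hg⟩, hj⟩, hcomp⟩, hqq⟩
      · rw [show root k = (n, q) from hroot]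
      · obtain ⟨hm, hq', -, hPm⟩ := hseen _ hmem
        have hgm : stGen.getD g [] ∈ stGen := by
          rw [List.getD_eq_getElem _ _ hg]; exact List.getElem_mem _
        rw [← hPm, hP.move _ hgm n hn m hm hcomp q' hq', hP.shift n hn (act (stGen.getD g []) q') (Nat.mod_lt _ (by norm_num)) j hj, hqq]
        rfl
    intro t ht
    rcases List.mem_cons.mp ht with rfl | ht
    · exact ⟨h0, hn, hk, hPs⟩
    · refine ih _ hrest (fun a ha => ?_) (fun u hu => hlt u (List.mem_cons_of_mem _ hu)) t ht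
      rcases List.mem_cons.mp ha with rfl | ha
      exacts [⟨hn, hq, hk, hPs⟩, hseen a ha]

theorem cls_inv {P : ℕ → ℕ → Prop} (hP : Inv P) {k : ℕ} {x : ℕ × ℕ} (hx : x ∈ cls k) :
    0 < x.1 ∧ x.1 < 64 ∧ x.2 < 2048 ∧ (P x.1 x.2 ↔ P (root k).1 (root k).2) := by
  simp only [cls, List.mem_flatMap, List.mem_filter, beq_iff_eq, List.mem_map] at hx
  obtain ⟨s, ⟨hs, hk⟩, c, hc, rfl⟩ := hx
  obtain ⟨h0, hn, -, hiff⟩ := forestOK_inv hP forest [] ck_forest (fun a ha => absurd ha List.not_mem_nil) forest_lt s hs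
  have hq := forest_lt s hs
  refine ⟨h0, hn, Nat.xor_lt_two_pow (n := 11) hq (coset_lt _ hn c hc), ?_⟩
  have hco := ck_coset _ hn h0
  simp only [cosetOK, Bool.and_eq_true, beq_iff_eq, List.all_eq_true, decide_eq_true_eq] at hco
  obtain ⟨⟨⟨hmap, hjs⟩, -⟩, -⟩ := hco
  rw [← hmap, List.mem_map] at hc
  obtain ⟨j, hj, rfl⟩ := hc
  rw [← hk, ← hiff]
  exact (hP.shift _ hn _ hq j (hjs j hj)).symm

/-- All states. -/
def allStates : List (ℕ × ℕ) := cls 0 ++ cls 1 ++ cls 2 ++ cls 3

theorem states_cover {n i : ℕ} (h0 : 0 < n) (hn : n < 64) (hi : i ∈ fixW (rEl n)) : (n, i) ∈ allStates := by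
  have hco := ck_coset n hn h0
  simp only [cosetOK, Bool.and_eq_true, beq_iff_eq, List.all_eq_true, List.any_eq_true, List.contains_iff_mem,
    decide_eq_true_eq] at hco
  obtain ⟨q, hq, hc⟩ := hco.2 i hi
  obtain ⟨s, hs, rfl, rfl⟩ := ck_cover n hn h0 q hq
  have hk : s.2.2.1 < 4 := (forestOK_inv (P := fun _ _ => True) ⟨fun _ _ _ _ _ _ => Iff.rfl,
    fun _ _ _ _ _ _ _ _ _ => Iff.rfl⟩ forest [] ck_forest (fun a ha => absurd ha List.not_mem_nil) forest_lt s hs).2.2.1
  have hm : (s.1, i) ∈ cls s.2.2.1 := by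
    simp only [cls, List.mem_flatMap, List.mem_filter, beq_iff_eq, List.mem_map]
    refine ⟨s, ⟨hs, rfl⟩, Nat.xor i s.2.1, hc, ?_⟩
    show (s.1, s.2.1 ^^^ (i ^^^ s.2.1)) = (s.1, i)
    rw [Nat.xor_comm i, ← Nat.xor_assoc, Nat.xor_self, Nat.zero_xor]
  simp only [allStates, List.mem_append]
  interval_cases hkk : s.2.2.1 <;> simp [hm]

/-- The fixed members over the non-trivial elements, as a finite set. -/
def target : Finset (ℕ × ℕ) :=
  ((Finset.range 64).erase 0).biUnion fun n => (fixW (rEl n)).toFinset.image fun i => (n, i)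

theorem card_target : target.card = 4032 := by
  have h : ∀ n ∈ (Finset.range 64).erase 0, ((fixW (rEl n)).toFinset.image fun i => (n, i)).card = 64 := by
    intro n hn
    rw [Finset.mem_erase, Finset.mem_range] at hn
    have hco := ck_coset n hn.2 (by omega)
    simp only [cosetOK, Bool.and_eq_true, beq_iff_eq] at hco
    rw [Finset.card_image_of_injective _ fun a c e => congrArg Prod.snd e,
      List.toFinset_card_of_nodup (show (fixW (rEl n)).Nodup from ck_wList.1.filter _)]
    exact hco.1.2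
  rw [target, Finset.card_biUnion, Finset.sum_congr rfl h, Finset.sum_const,
    Finset.card_erase_of_mem (by simp), Finset.card_range]
  · rfl
  · intro a _ c _ hac
    show Disjoint _ _
    rw [Finset.disjoint_left]
    intro x hx hx'
    simp only [Finset.mem_image] at hx hx'
    obtain ⟨i, -, rfl⟩ := hx
    obtain ⟨j, -, e⟩ := hx'
    exact hac (congrArg Prod.fst e).symm

theorem mem_target {x : ℕ × ℕ} : x ∈ target ↔ 0 < x.1 ∧ x.1 < 64 ∧ x.2 ∈ fixW (rEl x.1) := by
  simp only [target, Finset.mem_biUnion, Finset.mem_erase, Finset.mem_range, Finset.mem_image, List.mem_toFinset]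
  constructor
  · rintro ⟨n, ⟨h0, hn⟩, i, hi, rfl⟩; exact ⟨by show 0 < n; omega, hn, hi⟩
  · rintro ⟨h0, hn, hi⟩; exact ⟨x.1, ⟨by omega, hn⟩, x.2, hi, rfl⟩

attribute [local irreducible] cls in
theorem allStates_spec : allStates.Nodup ∧ allStates.toFinset = target := by
  have hsub : target ⊆ allStates.toFinset := fun x hx => by
    obtain ⟨h0, hn, hi⟩ := mem_target.mp hx
    exact List.mem_toFinset.mpr (states_cover h0 hn hi)
  have hlen : allStates.length = 4032 := by
    obtain ⟨a, b, c, d⟩ := ck_sizes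
    rw [allStates, List.length_append, List.length_append, List.length_append, a, b, c, d]
  have hle := Finset.card_le_card hsub
  have h2 := List.toFinset_card_le allStates
  rw [card_target] at hle
  refine ⟨?_, (Finset.eq_of_subset_of_card_le hsub (by rw [card_target]; omega)).symm⟩
  refine List.dedup_eq_self.mp ((List.dedup_sublist allStates).eq_of_length ?_)
  rw [← List.card_toFinset]
  omega

end CfsgLib.J4CentT
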