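import Cfsg.Agent.J4Local.CentT.EShape
import Cfsg.Agent.J4Local.CentT.Forest

/-!
The 2-core is the product of the subgroup of order 128 and the subgroup of order 64.
-/

set_option autoImplicit false
set_option maxRecDepth 100000

namespace CfsgLib.J4CentT

open Cfsg CfsgLib.Golay CfsgLib.Golay.Cert MulAction
open scoped Pointwise

theorem stGen_ofList {g : List ℕ} (hg : g ∈ stGen) : toList (ofList g).1 = g := toList_ofList (ck_gens g hg).1

theorem rg_conj_of_comp {g : List ℕ} (hg : g ∈ stGen) {n m : ℕ} (hn : n < 64) (hm : m < 64)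
    (h : compL g (rEl m) = compL (rEl n) g) : ofList g * rg m * (ofList g)⁻¹ = rg n := by
  rw [mul_inv_eq_iff_eq_mul]
  refine toList_coe_injective ?_
  show toList _ = toList _
  rw [Subgroup.coe_mul, Subgroup.coe_mul, toList_mul, toList_mul, stGen_ofList hg, rg_list hm, rg_list hn, h]

variable {G : Type*} [Group G] [Finite G] {z : G} {F : Fr z} {E : Subgroup G} (hE : EData (F.b zIdx) E)
  (hU : UniqueEleven G)

include hE hU

theorem EData.all_rg {n : ℕ} (hn : n < 64) : rg n ∈ (hE.projE hU).range := by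
  classical
  haveI : Fact (Nat.Prime 2) := ⟨Nat.prime_two⟩
  set Pi := (hE.projE hU).range with hPi
  let P : ℕ → ℕ → Prop := fun m _ => rg m ∈ Pi
  have hP : Inv P := by
    refine ⟨fun _ _ _ _ _ _ => Iff.rfl, fun g hg n hn m hm h _ _ => ?_⟩
    have e := rg_conj_of_comp hg hn hm h
    have hf := Fr.stGen_fix hg
    show rg m ∈ Pi ↔ rg n ∈ Pi
    refine ⟨fun hx => by rw [← e]; exact hE.range_conj hU hf hx, fun hx => ?_⟩
    have hf' : (ofList g)⁻¹ • toObj sStd = toObj sStd := inv_smul_eq_iff.mpr hf.symm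
    have := hE.range_conj hU hf' hx
    rwa [← e, show (ofList g)⁻¹ * (ofList g * rg m * (ofList g)⁻¹) * (ofList g)⁻¹⁻¹ = rg m by group] at this
  have hnum : ∀ k, ∀ m ∈ clsNum k, (rg m ∈ Pi ↔ rg (root k).1 ∈ Pi) ∧ 0 < m ∧ m < 64 := by
    intro k m hm
    simp only [clsNum, List.mem_dedup, List.mem_map, List.mem_filter, beq_iff_eq] at hm
    obtain ⟨s, ⟨hs, rfl⟩, rfl⟩ := hm
    obtain ⟨h0, h64, -, hiff⟩ := forestOK_inv hP forest [] ck_forest (fun a ha => absurd ha List.not_mem_nil) forest_lt s hs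
    exact ⟨hiff, h0, h64⟩
  obtain ⟨hl0, -, hl2, -, hdis, hall⟩ := ck_num
  set S := (Finset.range 64).filter fun m => rg m ∈ Pi with hS
  have hcard : Nat.card Pi = S.card := by
    rw [← Nat.card_eq_finsetCard]
    refine (Nat.card_congr (Equiv.ofBijective (fun m : S => (⟨rg m.1, (Finset.mem_filter.mp m.2).2⟩ : Pi))
      ⟨fun a c h => Subtype.ext (rg_inj (Finset.mem_range.mp (Finset.mem_filter.mp a.2).1)
        (Finset.mem_range.mp (Finset.mem_filter.mp c.2).1) (congrArg Subtype.val h)), fun σ => ?_⟩)).symm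
    obtain ⟨m, hm, e⟩ := hE.range_sub hU σ.2
    exact ⟨⟨m, Finset.mem_filter.mpr ⟨Finset.mem_range.mpr hm, e ▸ σ.2⟩⟩, Subtype.ext e.symm⟩
  have hne : (hE.projE hU).range ≠ ⊥ := by
    intro hbot
    have hle : E ≤ F.V := by
      intro e he
      obtain ⟨i, hi, hs⟩ := F.proj_spec ⟨e, hE.le_norm hU he⟩
      have h1 : F.proj ⟨e, hE.le_norm hU he⟩ = 1 := Subgroup.mem_bot.mp (hbot ▸ ⟨⟨e, he⟩, rfl⟩)
      have e' : e = F.b i * F.kap 1 := h1 ▸ hs
      rw [e', map_one, mul_one]
      exact F.b_mem i hi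
    have := Subgroup.card_le_of_le hle
    rw [hE.card_E, F.card_V] at this
    norm_num at this
  obtain ⟨j, hj⟩ := (hE.range_two hU).exists_card_eq
  have hS1 : S = {0} ∪ ((if rg (root 0).1 ∈ Pi then (clsNum 0).toFinset else ∅) ∪
      (if rg (root 2).1 ∈ Pi then (clsNum 2).toFinset else ∅)) := by
    ext m
    simp only [hS, Finset.mem_filter, Finset.mem_range, Finset.mem_union, Finset.mem_singleton]
    constructor
    · rintro ⟨hm, hmPi⟩
      rcases Nat.eq_zero_or_pos m with rfl | h0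
      · exact Or.inl rfl
      rcases hall m hm h0 with h | h
      · rw [if_pos ((hnum 0 m h).1.mp hmPi)]; exact Or.inr (Or.inl (List.mem_toFinset.mpr h))
      · rw [if_pos ((hnum 2 m h).1.mp hmPi)]; exact Or.inr (Or.inr (List.mem_toFinset.mpr h))
    · rintro (rfl | h | h)
      · exact ⟨by norm_num, rg_zero ▸ one_mem _⟩
      · split_ifs at h with hr
        · exact ⟨(hnum 0 m (List.mem_toFinset.mp h)).2.2, (hnum 0 m (List.mem_toFinset.mp h)).1.mpr hr⟩
        · exact absurd h (Finset.notMem_empty _)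
      · split_ifs at h with hr
        · exact ⟨(hnum 2 m (List.mem_toFinset.mp h)).2.2, (hnum 2 m (List.mem_toFinset.mp h)).1.mpr hr⟩
        · exact absurd h (Finset.notMem_empty _)
  have hnd : ∀ k, (clsNum k).Nodup := fun k => List.nodup_dedup _
  have hd1 : ∀ k, Disjoint ({0} : Finset ℕ) (clsNum k).toFinset := fun k => by
    rw [Finset.disjoint_singleton_left, List.mem_toFinset]
    intro h; have := (hnum k 0 h).2.1; omega
  have hd2 : Disjoint (clsNum 0).toFinset (clsNum 2).toFinset := by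
    rw [Finset.disjoint_left]
    intro m h1 h2
    rw [List.mem_toFinset] at h1 h2
    have := List.all_eq_true.mp hdis m h1
    simp [h2] at this
  by_cases h0 : rg (root 0).1 ∈ Pi <;> by_cases h2 : rg (root 2).1 ∈ Pi
  · rcases Nat.eq_zero_or_pos n with rfl | hn0
    · exact rg_zero ▸ one_mem _
    rcases hall n hn hn0 with h | h
    exacts [(hnum 0 n h).1.mpr h0, (hnum 2 n h).1.mpr h2]
  · exfalso
    rw [if_pos h0, if_neg h2, Finset.union_empty] at hS1
    rw [hcard, hS1, Finset.card_union_of_disjoint (hd1 0), Finset.card_singleton,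
      List.toFinset_card_of_nodup (hnd 0), hl0] at hj
    rcases j with _ | _ | _ | _ | _ | _ | j <;> simp [pow_succ] at hj
    omega
  · exfalso
    rw [if_neg h0, if_pos h2, Finset.empty_union] at hS1
    rw [hcard, hS1, Finset.card_union_of_disjoint (hd1 2), Finset.card_singleton,
      List.toFinset_card_of_nodup (hnd 2), hl2] at hj
    rcases j with _ | _ | _ | _ | _ | j <;> simp [pow_succ] at hj
    omega
  · exfalso
    rw [if_neg h0, if_neg h2, Finset.empty_union, Finset.union_empty] at hS1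
    rw [hS1, Finset.card_singleton] at hcard
    exact hne (Subgroup.card_eq_one.mp hcard)

theorem EData.card_inter : Nat.card (E ⊓ F.V : Subgroup G) = 128 := by
  classical
  have hr : Nat.card (hE.projE hU).range = 64 := by
    let f : Fin 64 → (hE.projE hU).range := fun m => ⟨rg m, hE.all_rg hU m.2⟩
    have hf : Function.Bijective f := ⟨fun a c h => Fin.ext (rg_inj a.2 c.2 (congrArg Subtype.val h)), fun σ => by
      obtain ⟨m, hm, e⟩ := hE.range_sub hU σ.2
      exact ⟨⟨m, hm⟩, Subtype.ext e.symm⟩⟩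
    rw [← Nat.card_congr (Equiv.ofBijective f hf), Nat.card_eq_fintype_card, Fintype.card_fin]
  have hk : (hE.projE hU).ker = (E ⊓ F.V).subgroupOf E := by
    ext e
    rw [MonoidHom.mem_ker, Subgroup.mem_subgroupOf, Subgroup.mem_inf]
    constructor
    · intro h
      refine ⟨e.2, ?_⟩
      obtain ⟨i, hi, hs⟩ := F.proj_spec ⟨e, hE.le_norm hU e.2⟩
      have h1 : F.proj ⟨e, hE.le_norm hU e.2⟩ = 1 := h
      have e' : (e : G) = F.b i * F.kap 1 := h1 ▸ hs
      rw [e', map_one, mul_one]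
      exact F.b_mem i hi
    · rintro ⟨-, hv⟩
      obtain ⟨i, hi, e'⟩ := F.b_surj _ hv
      exact F.proj_eq hi 1 _ (by rw [map_one, mul_one]; exact e'.symm)
  have h := (hE.projE hU).ker.card_mul_index
  rw [Subgroup.index_ker, hr, hk, Nat.card_congr (Subgroup.subgroupOfEquivOfLe inf_le_left).toEquiv, hE.card_E] at h
  omega

theorem EData.comm_mem {n j : ℕ} (hn : n < 64) (hj : j < 2048) : F.b (j ^^^ act (rEl n) j) ∈ E := by
  obtain ⟨i, hi, he⟩ := (hE.mem_range hU).mp (hE.all_rg hU hn)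
  have h1 := (Subgroup.mem_normalizer_iff.mp (hE.cent_norm (F.V_le_cent (F.b_mem j hj))) _).mp he
  rw [F.conj_b _ hi hj] at h1
  have h2 := mul_mem h1 (inv_mem he)
  have hlt : j ^^^ actG (rg n) j < 2048 := xor_lt hj (act_lt _ _)
  rw [show actG (rg n) j = act (rEl n) j by rw [actG, rg_list hn]] at hlt h2
  rw [mul_inv_rev, mul_assoc, mul_inv_cancel_left, F.b_inv hi, F.b_mul _ (xor_lt hi hlt) i hi] at h2
  rwa [show i ^^^ (j ^^^ act (rEl n) j) ^^^ i = j ^^^ act (rEl n) j by
    rw [Nat.xor_comm i, Nat.xor_assoc, Nat.xor_self, Nat.xor_zero]] at h2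

theorem EData.b_mem_iff {i : ℕ} (hi : i < 2048) : F.b i ∈ E ↔ inW i = true := by
  classical
  let S := ((Finset.range 2048).filter fun i => F.b i ∈ E)
  have hsub : wList.toFinset ⊆ S := by
    intro w hw
    rw [List.mem_toFinset] at hw
    obtain ⟨n, hn, rfl⟩ := List.mem_iff_getElem.mp hw
    have hn' : n < 128 := by rwa [← ck_wList.2.1]
    obtain ⟨h1, h2, h3⟩ := ck_wCert n hn'
    refine Finset.mem_filter.mpr ⟨Finset.mem_range.mpr (inW_lt (List.getElem_mem _)), ?_⟩
    rw [← List.getD_eq_getElem _ 0 hn, ← h3]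
    exact hE.comm_mem hU h1 h2
  have hS : S.card = 128 := by
    rw [← hE.card_inter hU, ← Nat.card_eq_finsetCard]
    refine Nat.card_congr (Equiv.ofBijective (fun i : S => (⟨F.b i.1, (Finset.mem_filter.mp i.2).2,
      F.b_mem _ (Finset.mem_range.mp (Finset.mem_filter.mp i.2).1)⟩ : (E ⊓ F.V : Subgroup G))) ⟨?_, ?_⟩)
    · intro a c h
      exact Subtype.ext (F.b_inj _ (Finset.mem_range.mp (Finset.mem_filter.mp a.2).1) _
        (Finset.mem_range.mp (Finset.mem_filter.mp c.2).1) (congrArg Subtype.val h))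
    · rintro ⟨v, hvE, hvV⟩
      obtain ⟨k, hk, rfl⟩ := F.b_surj v hvV
      exact ⟨⟨k, Finset.mem_filter.mpr ⟨Finset.mem_range.mpr hk, hvE⟩⟩, rfl⟩
  have e : wList.toFinset = S := Finset.eq_of_subset_of_card_le hsub (by
    rw [hS, List.toFinset_card_of_nodup ck_wList.1, ck_wList.2.1])
  rw [inW_iff hi, ← List.mem_toFinset, e, Finset.mem_filter, Finset.mem_range]
  exact ⟨fun h => ⟨hi, h⟩, fun h => h.2⟩

theorem EData.kap_mem {n : ℕ} (hn : n < 64) : F.kap (rg n) ∈ E := by
  obtain ⟨m, hm, hc⟩ := ck_fpf n hn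
  have hw : sextW ∈ stGen := by simp [stGen]
  set p := ofList sextW with hp
  set r := rg m with hr
  have hpc : rg n = r * p * r⁻¹ * p⁻¹ := (show rg n = r * p * (r⁻¹ * p⁻¹) from toList_coe_injective (by
    show toList _ = toList _
    rw [Subgroup.coe_mul, Subgroup.coe_mul, Subgroup.coe_mul, Subgroup.coe_inv, Subgroup.coe_inv, toList_mul,
      toList_mul, toList_mul, toList_inv, toList_inv, rg_list hn, rg_list hm, stGen_ofList hw, ← hc])).trans
      (mul_assoc _ _ _).symm
  obtain ⟨i, hi, he⟩ := (hE.mem_range hU).mp (hE.all_rg hU hm)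
  have hpC := F.kap_cent (Fr.stGen_fix hw)
  set c := rg n with hcdef
  have key : F.b i * F.kap r * (F.kap p * (F.b i * F.kap r)⁻¹ * (F.kap p)⁻¹) ∈ E :=
    mul_mem he ((Subgroup.mem_normalizer_iff.mp (hE.cent_norm hpC) _).mp (inv_mem he))
  set a := actG p i with ha
  have hval : F.b i * F.kap r * (F.kap p * (F.b i * F.kap r)⁻¹ * (F.kap p)⁻¹) =
      F.b (i ^^^ actG c a) * F.kap c := by
    have e1 : F.b i * F.kap r * (F.kap p * (F.b i * F.kap r)⁻¹ * (F.kap p)⁻¹) =
        F.b i * (F.kap c * (F.kap p * (F.b i)⁻¹ * (F.kap p)⁻¹)) := by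
      rw [hpc, map_mul, map_mul, map_mul, map_inv, map_inv]; group
    rw [e1, F.b_inv hi, F.b_conj p i hi, show act (toList p.1) i = a from rfl, F.swap c (act_lt _ _), ← mul_assoc,
      F.b_mul i hi _ (act_lt _ _)]
  rw [hval] at key
  have hW : F.b (i ^^^ actG c a) ∈ E := by
    have h1 : F.b (i ^^^ a) ∈ E := (hE.b_mem_iff hU (xor_lt hi (act_lt _ _))).mpr (by
      show inW (i ^^^ act (toList p.1) i) = true
      rw [hp, stGen_ofList hw]; exact ck_sextW i hi)
    have h2 : F.b (a ^^^ actG c a) ∈ E := by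
      rw [actG, hcdef, rg_list hn]; exact hE.comm_mem hU hn (act_lt _ _)
    have h3 := mul_mem h1 h2
    rwa [F.b_mul _ (xor_lt hi (act_lt _ _)) _ (xor_lt (act_lt _ _) (act_lt _ _)),
      show (i ^^^ a) ^^^ (a ^^^ actG c a) = i ^^^ actG c a by
        rw [Nat.xor_assoc, ← Nat.xor_assoc a a, Nat.xor_self, Nat.zero_xor]] at h3
  have h4 := mul_mem (inv_mem hW) key
  rwa [inv_mul_cancel_left] at h4

theorem EData.mem_iff (e : G) : e ∈ E ↔ ∃ i < 2048, inW i = true ∧ ∃ n < 64, e = F.b i * F.kap (rg n) := by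
  constructor
  · intro he
    obtain ⟨i, hi, hs⟩ := F.proj_spec ⟨e, hE.le_norm hU he⟩
    obtain ⟨n, hn, hσ⟩ := hE.range_sub hU (σ := hE.projE hU ⟨e, he⟩) ⟨⟨e, he⟩, rfl⟩
    have e' : e = F.b i * F.kap (rg n) := hσ ▸ hs
    refine ⟨i, hi, (hE.b_mem_iff hU hi).mp ?_, n, hn, e'⟩
    have := mul_mem he (inv_mem (hE.kap_mem hU hn))
    rwa [e', mul_inv_cancel_right] at this
  · rintro ⟨i, hi, hw, n, hn, rfl⟩
    exact mul_mem ((hE.b_mem_iff hU hi).mpr hw) (hE.kap_mem hU hn)

end CfsgLib.J4CentT
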