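import Cfsg.Agent.J4Local.CentT.Ops

/-!
The largest normal 2-subgroup of the centraliser of the chosen element, inside the normaliser.
-/

set_option autoImplicit false

namespace CfsgLib.J4CentT

open Cfsg CfsgLib.Golay CfsgLib.Golay.Cert MulAction
open scoped Pointwise

variable {G : Type*} [Group G] [Finite G] {z : G}

/-- What is used of the 2-core of the centraliser of an involution. -/
structure EData (w : G) (E : Subgroup G) : Prop where
  card_E : Nat.card E = 2 ^ 13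
  le_cent : E ≤ Subgroup.centralizer ({w} : Set G)
  cent_norm : Subgroup.centralizer ({w} : Set G) ≤ Subgroup.normalizer (E : Set G)
  self_cent : Subgroup.centralizer ({w} : Set G) ⊓ Subgroup.centralizer (E : Set G) ≤ E
  eleven : ∃ c ∈ Subgroup.centralizer ({w} : Set G), orderOf c = 11

/-- One elementary abelian subgroup of order 2048 in each Sylow 2-subgroup. -/
def UniqueEleven (G : Type*) [Group G] : Prop :=
  ∀ T : Sylow 2 G, ∃! V : Subgroup G, V ≤ (T : Subgroup G) ∧ Cfsg.IsElementaryAbelian 2 V ∧ Nat.card ↥V = 2 ^ 11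

theorem sylow_le_norm (hU : UniqueEleven G) {V : Subgroup G} (hV : Cfsg.IsElementaryAbelian 2 V)
    (hcard : Nat.card V = 2 ^ 11) {T : Sylow 2 G} (hT : V ≤ (T : Subgroup G)) :
    (T : Subgroup G) ≤ Subgroup.normalizer (V : Set G) := by
  intro g hg
  obtain ⟨W, -, hW⟩ := hU T
  have e1 := hW V ⟨hT, hV, hcard⟩
  have hle : V.map (MulAut.conj g).toMonoidHom ≤ (T : Subgroup G) := by
    rintro _ ⟨v, hv, rfl⟩; exact mul_mem (mul_mem hg (hT hv)) (inv_mem hg)
  have hel : Cfsg.IsElementaryAbelian 2 (V.map (MulAut.conj g).toMonoidHom) := by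
    refine ⟨⟨⟨?_⟩⟩, ?_⟩
    · rintro ⟨_, a, ha, rfl⟩ ⟨_, c, hc, rfl⟩
      refine Subtype.ext ?_
      show MulAut.conj g a * MulAut.conj g c = MulAut.conj g c * MulAut.conj g a
      rw [← map_mul, ← map_mul,
        show a * c = c * a from congrArg Subtype.val (hV.1.is_comm.comm ⟨a, ha⟩ ⟨c, hc⟩)]
    · rintro _ ⟨a, ha, rfl⟩
      rw [← map_pow, hV.2 a ha, map_one]
  have e2 := hW _ ⟨hle, hel, (Subgroup.card_map_of_injective (MulAut.conj g).injective).trans hcard⟩
  rw [← e1] at e2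
  refine Subgroup.mem_normalizer_iff.mpr fun h => ⟨fun hh => ?_, fun hh => ?_⟩
  · rw [← e2]; exact ⟨h, hh, rfl⟩
  · rw [← e2] at hh
    obtain ⟨a, ha, e⟩ := hh
    have : a = h := (MulAut.conj g).injective e
    exact this ▸ ha

variable (F : Fr z)

/-- The Mathieu part of an element of the normaliser. -/
noncomputable def Fr.pr (n : ↥(Subgroup.normalizer (F.V : Set G))) : M24 := (F.form n.2).choose_spec.2.choose

omit [Finite G] in
theorem Fr.pr_spec (n : ↥(Subgroup.normalizer (F.V : Set G))) : ∃ i < 2048, (n : G) = F.b i * F.kap (F.pr n) :=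
  ⟨_, (F.form n.2).choose_spec.1, (F.form n.2).choose_spec.2.choose_spec⟩

/-- The map from the normaliser to the Mathieu group. -/
noncomputable def Fr.proj : ↥(Subgroup.normalizer (F.V : Set G)) →* M24 :=
  MonoidHom.mk' F.pr fun n m => by
    obtain ⟨i, hi, hn⟩ := F.pr_spec n
    obtain ⟨j, hj, hm⟩ := F.pr_spec m
    obtain ⟨k, hk, h⟩ := F.pr_spec (n * m)
    rw [Subgroup.coe_mul, hn, hm, F.mul_form _ _ hi hj] at h
    exact (F.form_inj (xor_lt hi (act_lt _ _)) hk h).2.symm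

omit [Finite G] in
theorem Fr.proj_spec (n : ↥(Subgroup.normalizer (F.V : Set G))) :
    ∃ i < 2048, (n : G) = F.b i * F.kap (F.proj n) := F.pr_spec n

theorem Fr.proj_eq {i : ℕ} (hi : i < 2048) (σ : M24) (n : ↥(Subgroup.normalizer (F.V : Set G)))
    (h : (n : G) = F.b i * F.kap σ) : F.proj n = σ := by
  obtain ⟨j, hj, e⟩ := F.proj_spec n
  exact (F.form_inj hj hi (e.symm.trans h)).2

omit [Finite G] in
theorem normal_two_bot {α : Type*} [DecidableEq α] [Fintype α] (hα : Fintype.card α = 6)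
    (M : Subgroup (Equiv.Perm α)) (hM : M.Normal) (h2 : IsPGroup 2 M) : M = ⊥ := by
  by_contra hne
  obtain ⟨m, hm, hm1⟩ : ∃ m ∈ M, m ≠ 1 := by
    by_contra h
    push Not at h
    exact hne ((Subgroup.eq_bot_iff_forall M).mpr h)
  obtain ⟨a, ha⟩ : ∃ a, m a ≠ a := by
    by_contra h
    push Not at h
    exact hm1 (Equiv.ext h)
  have horb : orbit M a = Set.univ := by
    refine Set.eq_univ_of_forall fun c => ?_
    by_cases hca : c = a
    · rw [hca]; exact mem_orbit_self a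
    refine ⟨⟨Equiv.swap (m a) c * m * (Equiv.swap (m a) c)⁻¹, hM.conj_mem m hm _⟩, ?_⟩
    show Equiv.swap (m a) c (m ((Equiv.swap (m a) c)⁻¹ a)) = c
    rw [Equiv.swap_inv, Equiv.swap_apply_of_ne_of_ne (Ne.symm ha) (Ne.symm hca), Equiv.swap_apply_left]
  obtain ⟨n, hn⟩ := h2.card_orbit a
  rw [horb, Nat.card_congr (Equiv.Set.univ α), Nat.card_eq_fintype_card, hα] at hn
  rcases n with _ | _ | _ | n <;> simp [pow_succ] at hn
  omega

variable {F} {E : Subgroup G} (hE : EData (F.b zIdx) E)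

theorem Fr.V_le_cent (F : Fr z) : F.V ≤ Subgroup.centralizer ({F.b zIdx} : Set G) := by
  intro v hv
  obtain ⟨i, hi, rfl⟩ := F.b_surj v hv
  exact Subgroup.mem_centralizer_singleton_iff.mpr (F.b_comm hi ck_zIdx.1)

theorem Fr.kap_cent (F : Fr z) {σ : M24} (h : σ • toObj sStd = toObj sStd) :
    F.kap σ ∈ Subgroup.centralizer ({F.b zIdx} : Set G) := by
  refine Subgroup.mem_centralizer_singleton_iff.mpr ?_
  rw [F.swap σ ck_zIdx.1, (F.stab_iff σ).mp h]

theorem Fr.stGen_fix {g : List ℕ} (hg : g ∈ stGen) : ofList g • toObj sStd = toObj sStd :=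
  same_spec (toList_ofList (ck_gens g hg).1) sext_ok.1 (ck_gens g hg).2

include hE

theorem EData.isPGroup : IsPGroup 2 E := IsPGroup.of_card hE.card_E

theorem EData.le_norm (hU : UniqueEleven G) : E ≤ Subgroup.normalizer (F.V : Set G) := by
  haveI : Fact (Nat.Prime 2) := ⟨Nat.prime_two⟩
  have hV2 : IsPGroup 2 F.V := IsPGroup.of_card (n := 11) F.card_V
  have hQ : IsPGroup 2 (F.V ⊔ E : Subgroup G) :=
    hV2.to_sup_of_normal_right' hE.isPGroup (F.V_le_cent.trans hE.cent_norm)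
  obtain ⟨T, hT⟩ := hQ.exists_le_sylow
  exact (le_sup_right.trans hT).trans (sylow_le_norm hU F.elem F.card_V (le_sup_left.trans hT))

/-- The map on the 2-core. -/
noncomputable def EData.projE (hU : UniqueEleven G) : ↥E →* M24 :=
  F.proj.comp (Subgroup.inclusion (hE.le_norm hU))

theorem EData.range_two (hU : UniqueEleven G) : IsPGroup 2 (hE.projE hU).range :=
  hE.isPGroup.of_surjective (hE.projE hU).rangeRestrict (MonoidHom.rangeRestrict_surjective _)

theorem EData.mem_range (hU : UniqueEleven G) {σ : M24} :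
    σ ∈ (hE.projE hU).range ↔ ∃ i < 2048, F.b i * F.kap σ ∈ E := by
  constructor
  · rintro ⟨e, rfl⟩
    obtain ⟨i, hi, h⟩ := F.proj_spec ⟨e, hE.le_norm hU e.2⟩
    refine ⟨i, hi, ?_⟩
    have : F.b i * F.kap (hE.projE hU e) = e := h.symm
    rw [this]; exact e.2
  · rintro ⟨i, hi, h⟩
    exact ⟨⟨_, h⟩, F.proj_eq hi σ _ rfl⟩

theorem EData.range_le (hU : UniqueEleven G) {σ : M24} (h : σ ∈ (hE.projE hU).range) :
    σ • toObj sStd = toObj sStd := by
  obtain ⟨i, hi, h⟩ := (hE.mem_range hU).mp h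
  exact (F.stab_iff σ).mpr ((F.comm_iff σ hi ck_zIdx.1).mp (Subgroup.mem_centralizer_singleton_iff.mp (hE.le_cent h)))

theorem EData.range_conj (hU : UniqueEleven G) {g σ : M24} (hg : g • toObj sStd = toObj sStd)
    (h : σ ∈ (hE.projE hU).range) : g * σ * g⁻¹ ∈ (hE.projE hU).range := by
  obtain ⟨i, hi, h⟩ := (hE.mem_range hU).mp h
  refine (hE.mem_range hU).mpr ⟨actG g i, act_lt _ _, ?_⟩
  rw [← F.conj_kap g σ hi]
  exact (Subgroup.mem_normalizer_iff.mp (hE.cent_norm (F.kap_cent hg)) _).mp h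

theorem EData.range_sub (hU : UniqueEleven G) {σ : M24} (h : σ ∈ (hE.projE hU).range) :
    ∃ n < 64, σ = rg n := by
  haveI : Fact (Nat.Prime 2) := ⟨Nat.prime_two⟩
  set St := stabilizer M24 (toObj sStd)
  set Q := (hE.projE hU).range.subgroupOf St with hQ
  haveI hQn : Q.Normal := ⟨fun x hx g => by
    rw [hQ, Subgroup.mem_subgroupOf] at hx ⊢
    exact hE.range_conj hU (mem_stabilizer_iff.mp g.2) hx⟩
  have hQ2 : IsPGroup 2 Q := (hE.range_two hU).of_injective
    (Subgroup.subgroupOfEquivOfLe (H := (hE.projE hU).range) (K := St)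
      (fun x hx => mem_stabilizer_iff.mpr (hE.range_le hU hx))).toMonoidHom
    (MulEquiv.injective _)
  have hbot : Q.map (partsHom (toObj sStd)) = ⊥ := normal_two_bot (by
      rw [Fintype.card_coe, toObj, List.toFinset_card_of_nodup (nodup_pts sext_ok.1), List.length_map]; rfl)
    _ (hQn.map _ (partsHom_surjective sext_ok.1 sext_sw_ok)) (hQ2.map _)
  let s : St := ⟨σ, mem_stabilizer_iff.mpr (hE.range_le hU h)⟩
  have hs : s ∈ sKer := by
    rw [MonoidHom.mem_ker, ← Subgroup.mem_bot, ← hbot]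
    exact ⟨s, Subgroup.mem_subgroupOf.mpr h, rfl⟩
  have hker : toList σ.1 ∈ sextKer := sKer_list hs
  obtain ⟨k, hk⟩ := hE.range_two hU ⟨σ, h⟩
  have hσk : σ ^ (2 ^ k) = 1 := congrArg Subtype.val hk
  obtain ⟨m, hm, hmo⟩ := (Nat.dvd_prime_pow Nat.prime_two).mp (orderOf_dvd_of_pow_eq_one hσk)
  have h64 : σ ^ 64 = 1 := by
    have h192 : (⟨s, hs⟩ : sKer) ^ 192 = 1 := by rw [← card_sKer]; exact pow_card_eq_one'
    have e : σ ^ 192 = 1 := congrArg (fun x : sKer => x.1.1) h192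
    have hd : 2 ^ m ∣ 64 := by
      have hd1 : 2 ^ m ∣ 2 ^ 6 * 3 := hmo ▸ (orderOf_dvd_of_pow_eq_one e)
      exact (Nat.Coprime.pow_left m (by norm_num)).dvd_of_dvd_mul_right hd1
    exact orderOf_dvd_iff_pow_eq_one.mp (hmo ▸ hd)
  refine exists_rg (ck_ker _ hker ?_)
  have hsq : ∀ (j : ℕ) (τ : M24), sqn j (toList τ.1) = toList (τ ^ (2 ^ j) : M24).1 := by
    intro j
    induction j with
    | zero => intro τ; simp [sqn]
    | succ j ih =>
      intro τ
      rw [sqn, ← toList_mul, ← Subgroup.coe_mul, ih, ← pow_two, ← pow_mul, ← pow_succ']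
  rw [hsq, show (2 : ℕ) ^ 6 = 64 from rfl, h64]
  exact toList_one

end CfsgLib.J4CentT
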