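import Cfsg.Agent.J4Local.CentT.Coord
import Cfsg.Prelude.Def_JankoFourType

/-!
The normaliser of an elementary abelian subgroup of order 2048 with a complement isomorphic to the
Mathieu group on 24 points and two orbits, in coordinates.
-/

set_option autoImplicit false

namespace CfsgLib.J4CentT

open Cfsg CfsgLib.Golay CfsgLib.Golay.Cert MulAction
open scoped Pointwise

/-- The normaliser of an elementary abelian subgroup of order 2048 in coordinates. -/
structure Fr {G : Type*} [Group G] (z : G) where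
  /-- The elementary abelian subgroup. -/
  V : Subgroup G
  elem : Cfsg.IsElementaryAbelian 2 V
  card_V : Nat.card V = 2048
  /-- The embedded Mathieu group. -/
  kap : M24 →* G
  kap_inj : Function.Injective kap
  kap_norm : ∀ σ, kap σ ∈ Subgroup.normalizer (V : Set G)
  kap_disj : ∀ σ, kap σ ∈ V → σ = 1
  decomp : ∀ n ∈ Subgroup.normalizer (V : Set G), ∃ v ∈ V, ∃ σ, n = v * kap σ
  /-- The element with a given number. -/
  b : ℕ → G
  b_mem : ∀ i < 2048, b i ∈ V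
  b_surj : ∀ v ∈ V, ∃ i < 2048, b i = v
  b_inj : ∀ i < 2048, ∀ j < 2048, b i = b j → i = j
  b_mul : ∀ i < 2048, ∀ j < 2048, b i * b j = b (i ^^^ j)
  b_zero : b 0 = 1
  b_conj : ∀ σ, ∀ i < 2048, kap σ * b i * (kap σ)⁻¹ = b (act (toList σ.1) i)
  zconj : IsConj z (b zIdx)
  zstab : ∃ H : Subgroup M24, Nat.card H = 138240 ∧ ∀ σ, σ ∈ H ↔ act (toList σ.1) zIdx = zIdx
  pair_out : ∀ c < 24, ∀ a < c, ¬ IsConj z (b (pairNo a c)) ∧
    Subgroup.centralizer ({b (pairNo a c)} : Set G) ≤ Subgroup.normalizer (V : Set G)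
  cases : ∀ i < 2048, i ≠ 0 → IsConj z (b i) ∨ ∃ c < 24, ∃ a < c, i = pairNo a c

variable {G : Type*} [Group G] [Finite G]

/-- Coordinates from a complement and the two orbits. -/
theorem exists_fr {z : G} (V : Subgroup G) (hV : Cfsg.IsElementaryAbelian 2 V) (hcard : Nat.card V = 2 ^ 11)
    (hcomp : ∃ K : Subgroup G, K ≤ Subgroup.normalizer (V : Set G) ∧ K ⊓ V = ⊥ ∧
      K ⊔ V = Subgroup.normalizer (V : Set G) ∧ Cfsg.Spor.IsoM24 ↥K)
    (horb : ∃ z' t : G, z' ∈ V ∧ t ∈ V ∧ t ≠ 1 ∧ IsConj z z' ∧ ¬ IsConj z t ∧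
      Set.ncard {v : G | ∃ n ∈ Subgroup.normalizer (V : Set G), n * z' * n⁻¹ = v} = 1771 ∧
      Set.ncard {v : G | ∃ n ∈ Subgroup.normalizer (V : Set G), n * t * n⁻¹ = v} = 276 ∧
      Subgroup.centralizer ({t} : Set G) ≤ Subgroup.normalizer (V : Set G)) :
    Nonempty (Fr z) := by
  classical
  obtain ⟨K, hKn, hKV, hKs, ⟨e⟩⟩ := hcomp
  obtain ⟨z', t, hz', ht, -, hzz', hzt, h1771, h276, hct⟩ := horb
  set N := Subgroup.normalizer (V : Set G) with hN
  let κ : M24 →* G := K.subtype.comp e.symm.toMonoidHom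
  have κK : ∀ σ, κ σ ∈ K := fun σ => (e.symm σ).2
  have κinj : Function.Injective κ := fun a c h => e.symm.injective (Subtype.ext h)
  have κN : ∀ σ, κ σ ∈ N := fun σ => hKn (κK σ)
  have conjV : ∀ n ∈ N, ∀ v ∈ V, n * v * n⁻¹ ∈ V := fun n hn v hv =>
    (Subgroup.mem_normalizer_iff.mp hn v).mp hv
  have hdec : ∀ n ∈ N, ∃ v ∈ V, ∃ σ, n = v * κ σ := by
    intro n hn
    have h' : n ∈ ((V ⊔ K : Subgroup G) : Set G) := by rw [sup_comm, hKs]; exact hn
    rw [Subgroup.coe_mul_of_right_le_normalizer_left V K hKn] at h'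
    obtain ⟨v, hv, k, hk, rfl⟩ := h' 
    exact ⟨v, hv, e ⟨k, hk⟩, by simp [κ]⟩
  letI : CommGroup ↥V := { (inferInstance : Group ↥V) with mul_comm := fun a c => hV.1.is_comm.comm a c }
  let A := Additive ↥V
  letI : MulAction M24 A :=
    { smul := fun σ a => Additive.ofMul ⟨κ σ * (a.toMul : G) * (κ σ)⁻¹, conjV _ (κN σ) _ a.toMul.2⟩
      one_smul := fun a => Additive.toMul.injective (Subtype.ext (by
        show κ 1 * (a.toMul : G) * (κ 1)⁻¹ = a.toMul
        simp))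
      mul_smul := fun σ τ a => Additive.toMul.injective (Subtype.ext (by
        show κ (σ * τ) * (a.toMul : G) * (κ (σ * τ))⁻¹ = κ σ * (κ τ * (a.toMul : G) * (κ τ)⁻¹) * (κ σ)⁻¹
        rw [map_mul]; group)) }
  let g : A → G := fun a => (a.toMul : G)
  have ginj : Function.Injective g := fun a c h => Additive.toMul.injective (Subtype.ext h)
  have gsmul : ∀ (σ : M24) a, g (σ • a) = κ σ * g a * (κ σ)⁻¹ := fun σ a => rfl
  have hA : Nat.card A = 2048 := by
    rw [show (2048 : ℕ) = 2 ^ 11 from rfl, ← hcard]; exact Nat.card_congr Additive.toMul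
  have hself : ∀ a : A, a + a = 0 := fun a => by
    refine ginj ?_
    show (a.toMul : G) * a.toMul = 1
    rw [← pow_two]; exact hV.2 _ a.toMul.2
  have hsmul : ∀ (σ : M24) (a c : A), σ • (a + c) = σ • a + σ • c := fun σ a c => ginj (by
    show κ σ * ((a.toMul : G) * c.toMul) * (κ σ)⁻¹ =
      κ σ * (a.toMul : G) * (κ σ)⁻¹ * (κ σ * (c.toMul : G) * (κ σ)⁻¹)
    group)
  have horbN : ∀ v : ↥V, g '' (orbit M24 (Additive.ofMul v : A)) = {w : G | ∃ n ∈ N, n * v * n⁻¹ = w} := by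
    intro v
    ext w
    constructor
    · rintro ⟨_, ⟨σ, rfl⟩, rfl⟩; exact ⟨κ σ, κN σ, (gsmul σ _).symm⟩
    · rintro ⟨n, hn, rfl⟩
      obtain ⟨u, hu, σ, rfl⟩ := hdec n hn
      refine ⟨σ • Additive.ofMul v, mem_orbit _ σ, ?_⟩
      rw [gsmul]
      have hc := conjV _ (κN σ) _ v.2
      have hcm : u * (κ σ * (v : G) * (κ σ)⁻¹) = κ σ * (v : G) * (κ σ)⁻¹ * u :=
        congrArg Subtype.val (hV.1.is_comm.comm ⟨u, hu⟩ ⟨_, hc⟩)
      show κ σ * (v : G) * (κ σ)⁻¹ = _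
      calc κ σ * (v : G) * (κ σ)⁻¹ = κ σ * (v : G) * (κ σ)⁻¹ * u * u⁻¹ := by group
        _ = u * (κ σ * (v : G) * (κ σ)⁻¹) * u⁻¹ := by rw [hcm]
        _ = _ := by group
  set ta : A := Additive.ofMul (⟨t, ht⟩ : ↥V) with hta
  set za : A := Additive.ofMul (⟨z', hz'⟩ : ↥V) with hza
  have ct : (orbit M24 ta).ncard = 276 := by rw [← Set.ncard_image_of_injective _ ginj, hta, horbN]; exact h276
  have cz : (orbit M24 za).ncard = 1771 := by rw [← Set.ncard_image_of_injective _ ginj, hza, horbN]; exact h1771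
  have cls : ∀ x ∈ orbit M24 za, IsConj z (g x) := by
    rintro _ ⟨σ, rfl⟩; exact hzz'.trans (isConj_iff.mpr ⟨κ σ, rfl⟩)
  have clt : ∀ x ∈ orbit M24 ta, ¬ IsConj z (g x) ∧ Subgroup.centralizer ({g x} : Set G) ≤ N := by
    rintro _ ⟨σ, rfl⟩
    refine ⟨fun h => hzt (h.trans (isConj_iff.mpr ⟨κ σ, rfl⟩).symm), fun c hc => ?_⟩
    have hmem : (κ σ)⁻¹ * c * κ σ ∈ Subgroup.centralizer ({t} : Set G) := by
      rw [Subgroup.mem_centralizer_singleton_iff] at hc ⊢
      change c * (κ σ * t * (κ σ)⁻¹) = κ σ * t * (κ σ)⁻¹ * c at hc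
      calc (κ σ)⁻¹ * c * κ σ * t = (κ σ)⁻¹ * (c * (κ σ * t * (κ σ)⁻¹)) * κ σ := by group
        _ = _ := by rw [hc]; group
    have h2 := mul_mem (mul_mem (κN σ) (hct hmem)) (inv_mem (κN σ))
    rwa [show κ σ * ((κ σ)⁻¹ * c * κ σ) * (κ σ)⁻¹ = c by group] at h2
  have z0 : ∀ w : A, w ≠ 0 → (0 : A) ∉ orbit M24 w := by
    rintro w hw ⟨σ, hσ⟩
    have e : g (σ • w) = g (0 : A) := congrArg g hσ
    rw [gsmul] at e
    exact hw (ginj (conj_eq_one_iff.mp (show κ σ * g w * (κ σ)⁻¹ = 1 from e)))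
  have ta0 : ta ≠ 0 := fun h => by
    have e : orbit M24 ta = {0} := by
      rw [h]; ext x
      exact ⟨fun ⟨σ, hσ⟩ => hσ.symm.trans (ginj (by rw [gsmul]; show κ σ * 1 * (κ σ)⁻¹ = 1; group)),
        fun hx => ⟨1, (one_smul M24 (0 : A)).trans hx.symm⟩⟩
    rw [e, Set.ncard_singleton] at ct; norm_num at ct
  have za0 : za ≠ 0 := fun h => by
    have e : orbit M24 za = {0} := by
      rw [h]; ext x
      exact ⟨fun ⟨σ, hσ⟩ => hσ.symm.trans (ginj (by rw [gsmul]; show κ σ * 1 * (κ σ)⁻¹ = 1; group)),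
        fun hx => ⟨1, (one_smul M24 (0 : A)).trans hx.symm⟩⟩
    rw [e, Set.ncard_singleton] at cz; norm_num at cz
  have hdisj : Disjoint (orbit M24 ta) (orbit M24 za) :=
    Set.disjoint_left.mpr fun x h1 h2 => (clt x h1).1 (cls x h2)
  have hcover : ∀ a : A, a ≠ 0 → a ∈ orbit M24 ta ∨ a ∈ orbit M24 za := by
    have e : orbit M24 ta ∪ orbit M24 za = {(0 : A)}ᶜ := by
      refine Set.eq_of_subset_of_ncard_le ?_ ?_ (Set.toFinite _)
      · rintro x (h | h) <;> rw [Set.mem_compl_iff, Set.mem_singleton_iff] <;> rintro rfl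
        exacts [z0 _ ta0 h, z0 _ za0 h]
      · rw [Set.ncard_union_eq hdisj, ct, cz, Set.ncard_compl, hA, Set.ncard_singleton]
    intro a ha
    have : a ∈ orbit M24 ta ∪ orbit M24 za := by rw [e]; simpa using ha
    exact this
  obtain ⟨C, hCz, hCt⟩ := exists_cd hA hself hsmul ct cz hcover
  refine ⟨{
    V := V, elem := hV, card_V := hcard, kap := κ, kap_inj := κinj, kap_norm := κN
    kap_disj := fun σ h => κinj (by
      rw [map_one]
      exact Subgroup.mem_bot.mp (hKV ▸ Subgroup.mem_inf.mpr ⟨κK σ, h⟩))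
    decomp := hdec
    b := fun i => g (C.num i)
    b_mem := fun i _ => (C.num i).toMul.2
    b_surj := fun v hv => by
      obtain ⟨i, hi, h⟩ := C.surj (Additive.ofMul (⟨v, hv⟩ : ↥V))
      exact ⟨i, hi, by rw [h]; rfl⟩
    b_inj := fun i hi j hj h => C.inj i hi j hj (ginj h)
    b_mul := fun i hi j hj => by rw [← C.add i hi j hj]; rfl
    b_zero := by rw [C.zero]; rfl
    b_conj := fun σ i hi => by rw [← gsmul, C.equiv σ i hi]
    zconj := cls _ hCz
    zstab := ⟨stabilizer M24 (C.num zIdx), by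
        have h := (stabilizer M24 (C.num zIdx)).card_mul_index
        rw [index_stabilizer, MulAction.orbit_eq_iff.mpr hCz, cz, card_M24] at h
        omega, fun σ => by
        rw [mem_stabilizer_iff, C.equiv σ _ ck_zIdx.1]
        exact ⟨C.inj _ (act_lt _ _) _ ck_zIdx.1, fun h => by rw [h]⟩⟩
    pair_out := fun c hc a ha => clt _ ((hCt _).mpr ⟨c, hc, a, ha, rfl⟩)
    cases := fun i hi h0 => ?_ }⟩
  rcases hcover (C.num i) fun h => h0 (C.inj i hi 0 (by norm_num) (h.trans C.zero.symm)) with h | h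
  · obtain ⟨c, hc, a, ha, e⟩ := (hCt _).mp h
    exact Or.inr ⟨c, hc, a, ha, C.inj i hi _ (cd_lt _) e⟩
  · exact Or.inl (cls _ h)

end CfsgLib.J4CentT
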