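import Cfsg.Agent.J4Local.CentT.EFull

/-!
Every involution of the 2-core is conjugate into the elementary abelian subgroup of order 2048: an element
of order 11 of the centraliser fixes no such involution other than the central one, so every class has
length divisible by 11.
-/

set_option autoImplicit false
set_option maxRecDepth 100000

namespace CfsgLib.J4CentT

open Cfsg CfsgLib.Golay CfsgLib.Golay.Cert
open scoped Pointwise

theorem conj_mod {G : Type*} [Group G] [DecidableEq G] {c : G} (hc : c ^ 11 = 1) (S : Finset G)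
    (hS : ∀ x ∈ S, c * x * c⁻¹ ∈ S) : (S.filter fun x => c * x = x * c).card % 11 = S.card % 11 := by
  classical
  let f : S → S := fun x => ⟨c * x * c⁻¹, hS _ x.2⟩
  have hf : Function.Injective f := fun a b h =>
    Subtype.ext (mul_left_cancel (mul_right_cancel (congrArg Subtype.val h)))
  let σ : Equiv.Perm S := Equiv.ofBijective f ⟨hf, Finite.injective_iff_surjective.mp hf⟩
  have hpow : ∀ (k : ℕ) (x : S), ((σ ^ k) x : G) = c ^ k * x * (c ^ k)⁻¹ := by
    intro k
    induction k with
    | zero => intro x; simp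
    | succ k ih =>
      intro x
      rw [pow_succ', Equiv.Perm.mul_apply]
      show c * ((σ ^ k) x : G) * c⁻¹ = _
      rw [ih, pow_succ']
      group
  have h11 : σ ^ 11 ^ 1 = 1 := Equiv.ext fun x => Subtype.ext (by rw [pow_one, hpow, hc]; simp)
  haveI : Fact (Nat.Prime 11) := ⟨by norm_num⟩
  have h := Equiv.Perm.card_compl_support_modEq (p := 11) h11
  rw [Fintype.card_coe] at h
  have e : (σ.support)ᶜ.card = (S.filter fun x => c * x = x * c).card := by
    refine Finset.card_bij (fun x _ => x.1) (fun x hx => ?_) (fun a _ b _ h => Subtype.ext h)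
      (fun x hx => ?_)
    · rw [Finset.mem_compl, Equiv.Perm.notMem_support] at hx
      have : c * x.1 * c⁻¹ = x.1 := congrArg Subtype.val hx
      exact Finset.mem_filter.mpr ⟨x.2, mul_inv_eq_iff_eq_mul.mp this⟩
    · rw [Finset.mem_filter] at hx
      refine ⟨⟨x, hx.1⟩, ?_, rfl⟩
      rw [Finset.mem_compl, Equiv.Perm.notMem_support]
      exact Subtype.ext (mul_inv_eq_iff_eq_mul.mpr hx.2)
  rw [← e]
  exact h

variable {G : Type*} [Group G] [Finite G] {z : G} {F : Fr z} {E : Subgroup G} (hE : EData (F.b zIdx) E)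
  (hU : UniqueEleven G)

include hE hU

theorem EData.sq_iff {i n : ℕ} (hi : i < 2048) (hn : n < 64) :
    F.b i * F.kap (rg n) * (F.b i * F.kap (rg n)) = 1 ↔ act (rEl n) i = i := by
  rw [F.mul_form _ _ hi hi, rg_sq hn, map_one, mul_one, actG, rg_list hn, ← F.b_zero]
  constructor
  · intro h
    have e := F.b_inj _ (xor_lt hi (act_lt _ _)) 0 (by norm_num) h
    simpa [← Nat.xor_assoc] using congrArg (i ^^^ ·) e
  · intro h; rw [h, Nat.xor_self]

theorem EData.fixed_two {c : G} (hc : c ∈ Subgroup.centralizer ({F.b zIdx} : Set G)) (hord : orderOf c = 11) :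
    ∀ e ∈ E, e * e = 1 → c * e = e * c → e = 1 ∨ e = F.b zIdx := by
  classical
  haveI : Fintype G := Fintype.ofFinite G
  have hc11 : c ^ 11 = 1 := hord ▸ pow_orderOf_eq_one c
  have hinv : ∀ x, x ∈ E → c * x * c⁻¹ ∈ E := fun x hx =>
    (Subgroup.mem_normalizer_iff.mp (hE.cent_norm hc) x).mp hx
  -- the centraliser in the 2-core has order 8
  set S := Finset.univ.filter fun x : G => x ∈ E with hS
  have hSc : S.card = 2 ^ 13 := by rw [hS, ← Fintype.card_subtype, ← Nat.card_eq_fintype_card]; exact hE.card_E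
  set C := E ⊓ Subgroup.centralizer ({c} : Set G) with hC
  have hCc : (S.filter fun x => c * x = x * c).card = Nat.card C := by
    rw [hS, Finset.filter_filter, ← Fintype.card_subtype, ← Nat.card_eq_fintype_card]
    refine Nat.card_congr (Equiv.subtypeEquivRight fun x => ?_)
    rw [hC, Subgroup.mem_inf, Subgroup.mem_centralizer_singleton_iff]
    exact and_congr Iff.rfl ⟨Eq.symm, Eq.symm⟩
  have h1 := conj_mod hc11 S fun x hx => Finset.mem_filter.mpr ⟨Finset.mem_univ _, hinv x (Finset.mem_filter.mp hx).2⟩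
  rw [hCc, hSc] at h1
  obtain ⟨j, hj, hjc⟩ := (Nat.dvd_prime_pow Nat.prime_two).mp (hE.card_E ▸ Subgroup.card_dvd_of_le (inf_le_left : C ≤ E))
  have hne : j ≠ 13 := by
    intro e
    rw [e, ← hE.card_E] at hjc
    have hCE : C = E := Subgroup.eq_of_le_of_card_ge inf_le_left hjc.ge
    have hcE : c ∈ E := hE.self_cent ⟨hc, Subgroup.mem_centralizer_iff.mpr fun x hx =>
      Subgroup.mem_centralizer_singleton_iff.mp (hCE.ge hx).2⟩
    have h := orderOf_dvd_natCard (⟨c, hcE⟩ : E)
    rw [← Subgroup.orderOf_coe, hord, hE.card_E] at h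
    norm_num at h
  have hj3 : Nat.card C = 8 := by
    rw [hjc] at h1 ⊢
    interval_cases j <;> simp_all
  -- all square roots of the identity
  set I := S.filter fun x => x * x = 1 with hI
  let pairs : Finset (ℕ × ℕ) := target ∪ wList.toFinset.image fun i => (0, i)
  have hpc : pairs.card = 4160 := by
    rw [Finset.card_union_of_disjoint, card_target, Finset.card_image_of_injective _ fun a b e => congrArg Prod.snd e,
      List.toFinset_card_of_nodup ck_wList.1, ck_wList.2.1]
    rw [Finset.disjoint_left]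
    intro x hx hx'
    obtain ⟨i, -, rfl⟩ := Finset.mem_image.mp hx'
    exact absurd (mem_target.mp hx).1 (lt_irrefl 0)
  have hpair : ∀ x ∈ pairs, x.1 < 64 ∧ x.2 < 2048 ∧ inW x.2 = true ∧ act (rEl x.1) x.2 = x.2 := by
    intro x hx
    rcases Finset.mem_union.mp hx with h | h
    · obtain ⟨-, hn, hi⟩ := mem_target.mp h
      obtain ⟨hw, hf⟩ := List.mem_filter.mp hi
      exact ⟨hn, inW_lt hw, (ck_wList.2.2 _ hw).2, by simpa using hf⟩
    · obtain ⟨i, hi, rfl⟩ := Finset.mem_image.mp h
      rw [List.mem_toFinset] at hi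
      refine ⟨by norm_num, inW_lt hi, (ck_wList.2.2 _ hi).2, ?_⟩
      have := F.act_one (inW_lt hi)
      rwa [← rg_zero, actG, rg_list (by norm_num)] at this
  have hIc : I.card = 4160 := by
    rw [← hpc]
    symm
    refine Finset.card_bij (fun x _ => F.b x.2 * F.kap (rg x.1)) (fun x hx => ?_) (fun x hx y hy h => ?_) (fun g hg => ?_)
    · obtain ⟨hn, hi, hw, hf⟩ := hpair x hx
      simp only [hI, hS, Finset.mem_filter, Finset.mem_univ, true_and]
      exact ⟨(hE.mem_iff hU _).mpr ⟨_, hi, hw, _, hn, rfl⟩, (hE.sq_iff hU hi hn).mpr hf⟩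
    · obtain ⟨hn, hi, -, -⟩ := hpair x hx
      obtain ⟨hn', hi', -, -⟩ := hpair y hy
      obtain ⟨e1, e2⟩ := F.form_inj hi hi' h
      exact Prod.ext (rg_inj hn hn' e2) e1
    · simp only [hI, hS, Finset.mem_filter, Finset.mem_univ, true_and] at hg
      obtain ⟨i, hi, hw, n, hn, rfl⟩ := (hE.mem_iff hU g).mp hg.1
      refine ⟨(n, i), ?_, rfl⟩
      rcases Nat.eq_zero_or_pos n with rfl | h0
      · exact Finset.mem_union_right _ (Finset.mem_image.mpr ⟨i, List.mem_toFinset.mpr ((inW_iff hi).mp hw), rfl⟩)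
      · exact Finset.mem_union_left _ (mem_target.mpr ⟨h0, hn, List.mem_filter.mpr
          ⟨(inW_iff hi).mp hw, by simpa using (hE.sq_iff hU hi hn).mp hg.2⟩⟩)
  have h2 := conj_mod hc11 I fun x hx => by
    simp only [hI, hS, Finset.mem_filter, Finset.mem_univ, true_and] at hx ⊢
    refine ⟨hinv x hx.1, ?_⟩
    rw [show c * x * c⁻¹ * (c * x * c⁻¹) = c * (x * x) * c⁻¹ by group, hx.2]
    group
  rw [hIc] at h2
  set Fx := I.filter fun x => c * x = x * c with hFx
  have hle : Fx.card ≤ 8 := by
    rw [← hj3, ← hCc]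
    exact Finset.card_le_card fun x hx => by
      simp only [hFx, hI, Finset.mem_filter] at hx
      exact Finset.mem_filter.mpr ⟨hx.1.1, hx.2⟩
  have hF2 : Fx.card = 2 := by omega
  have hzE : F.b zIdx ∈ E := (hE.b_mem_iff hU ck_zIdx.1).mpr (by decide +kernel)
  have hne1 : F.b zIdx ≠ 1 := fun e =>
    absurd (F.b_inj _ ck_zIdx.1 0 (by norm_num) (e.trans F.b_zero.symm)) (by decide +kernel)
  have hsub : ({1, F.b zIdx} : Finset G) ⊆ Fx := by
    intro x hx
    simp only [Finset.mem_insert, Finset.mem_singleton] at hx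
    simp only [hFx, hI, hS, Finset.mem_filter, Finset.mem_univ, true_and]
    rcases hx with rfl | rfl
    · exact ⟨⟨one_mem _, one_mul 1⟩, by rw [mul_one, one_mul]⟩
    · exact ⟨⟨hzE, F.b_sq ck_zIdx.1⟩, Subgroup.mem_centralizer_singleton_iff.mp hc⟩
  intro e he hee hce
  have hm : e ∈ Fx := by
    simp only [hFx, hI, hS, Finset.mem_filter, Finset.mem_univ, true_and]; exact ⟨⟨he, hee⟩, hce⟩
  rw [← Finset.eq_of_subset_of_card_le hsub (by rw [hF2, Finset.card_pair (Ne.symm hne1)])] at hm
  simpa using hm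

/-- Every involution of the 2-core is conjugate to a member of the elementary abelian subgroup. -/
theorem EData.fused {e : G} (he : e ∈ E) (hee : e * e = 1) : ∃ g : G, g * e * g⁻¹ ∈ F.V := by
  classical
  haveI : Fintype G := Fintype.ofFinite G
  obtain ⟨c, hc, hord⟩ := hE.eleven
  set H := Subgroup.centralizer ({F.b zIdx} : Set G) with hH
  let Bad : G → Prop := fun x => x ∈ E ∧ x * x = 1 ∧ ∀ h ∈ H, h * x * h⁻¹ ∉ F.V
  by_contra hcon
  push Not at hcon
  have hbad : Bad e := ⟨he, hee, fun h _ => hcon h⟩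
  have hbinv : ∀ h ∈ H, ∀ x, Bad x ↔ Bad (h * x * h⁻¹) := by
    have one : ∀ h ∈ H, ∀ x, Bad x → Bad (h * x * h⁻¹) := fun h hh x hx =>
      ⟨(Subgroup.mem_normalizer_iff.mp (hE.cent_norm hh) x).mp hx.1,
        by rw [show h * x * h⁻¹ * (h * x * h⁻¹) = h * (x * x) * h⁻¹ by group, hx.2.1]; group,
        fun k hk hm => hx.2.2 (k * h) (mul_mem hk hh)
          (by rwa [show k * h * x * (k * h)⁻¹ = k * (h * x * h⁻¹) * k⁻¹ by group])⟩
    exact fun h hh x => ⟨one h hh x, fun hx => by
      have := one h⁻¹ (inv_mem hh) _ hx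
      rwa [show h⁻¹ * (h * x * h⁻¹) * h⁻¹⁻¹ = x by group] at this⟩
  let P : ℕ → ℕ → Prop := fun n i => Bad (F.b i * F.kap (rg n))
  have hP : Inv P := by
    refine ⟨fun n hn i hi j hj => ?_, fun g hg n hn m hm h i hi => ?_⟩
    · have hx := hbinv (F.b j) (F.V_le_cent (F.b_mem j hj)) (F.b i * F.kap (rg n))
      rw [F.conj_b _ hi hj, show actG (rg n) j = act (rEl n) j by rw [actG, rg_list hn]] at hx
      exact hx
    · have hx := hbinv (F.kap (ofList g)) (F.kap_cent (Fr.stGen_fix hg)) (F.b i * F.kap (rg m))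
      rw [F.conj_kap _ _ hi, rg_conj_of_comp hg hn hm h,
        show actG (ofList g) i = act g i by rw [actG, stGen_ofList hg]] at hx
      exact hx
  set U := Finset.univ.filter Bad with hUdef
  have hUc : U.card = (allStates.toFinset.filter fun x => P x.1 x.2).card := by
    rw [allStates_spec.2]
    symm
    refine Finset.card_bij (fun x _ => F.b x.2 * F.kap (rg x.1)) (fun x hx => ?_) (fun x hx y hy h => ?_) (fun g hg => ?_)
    · exact Finset.mem_filter.mpr ⟨Finset.mem_univ _, (Finset.mem_filter.mp hx).2⟩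
    · obtain ⟨-, hn, hi⟩ := mem_target.mp (Finset.mem_filter.mp hx).1
      obtain ⟨-, hn', hi'⟩ := mem_target.mp (Finset.mem_filter.mp hy).1
      obtain ⟨e1, e2⟩ := F.form_inj (inW_lt (List.mem_filter.mp hi).1) (inW_lt (List.mem_filter.mp hi').1) h
      exact Prod.ext (rg_inj hn hn' e2) e1
    · have hg' : Bad g := (Finset.mem_filter.mp hg).2
      obtain ⟨i, hi, hw, n, hn, rfl⟩ := (hE.mem_iff hU g).mp hg'.1
      have h0 : 0 < n := by
        rcases Nat.eq_zero_or_pos n with rfl | h
        · exact absurd (by rw [one_mul, inv_one, mul_one, rg_zero, map_one, mul_one]; exact F.b_mem i hi)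
            (hg'.2.2 1 (one_mem _))
        · exact h
      exact ⟨(n, i), Finset.mem_filter.mpr ⟨mem_target.mpr ⟨h0, hn, List.mem_filter.mpr
        ⟨(inW_iff hi).mp hw, by simpa using (hE.sq_iff hU hi hn).mp hg'.2.1⟩⟩, hg'⟩, rfl⟩
  have hU0 : U.card % 11 = 0 := by
    have h := conj_mod (hord ▸ pow_orderOf_eq_one c) U fun x hx =>
      Finset.mem_filter.mpr ⟨Finset.mem_univ _, (hbinv c hc x).mp (Finset.mem_filter.mp hx).2⟩
    rw [← h, Finset.card_eq_zero.mpr]
    refine Finset.filter_eq_empty_iff.mpr fun {x} hx hcx => ?_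
    have hb := (Finset.mem_filter.mp hx).2
    refine hb.2.2 1 (one_mem _) ?_
    rw [one_mul, inv_one, mul_one]
    rcases hE.fixed_two hU hc hord x hb.1 hb.2.1 hcx with rfl | rfl
    exacts [one_mem _, F.b_mem _ ck_zIdx.1]
  let t : ℕ → ℕ := fun k => if P (root k).1 (root k).2 then (cls k).length else 0
  have hlen : (allStates.toFinset.filter fun x => P x.1 x.2).card = t 0 + t 1 + t 2 + t 3 := by
    rw [show (allStates.toFinset.filter fun x => P x.1 x.2) = (allStates.filter fun x => decide (P x.1 x.2)).toFinset by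
        rw [List.toFinset_filter]; exact Finset.filter_congr fun x _ => by simp,
      List.toFinset_card_of_nodup (allStates_spec.1.filter _)]
    have part : ∀ k, ((cls k).filter fun x => decide (P x.1 x.2)).length = t k := fun k => by
      by_cases hk : P (root k).1 (root k).2
      · simp only [t, if_pos hk]
        rw [List.filter_eq_self.mpr fun x hx => decide_eq_true ((cls_inv hP hx).2.2.2.mpr hk)]
      · simp only [t, if_neg hk]
        rw [List.length_eq_zero_iff, List.filter_eq_nil_iff]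
        exact fun x hx => by simpa using fun h => hk ((cls_inv hP hx).2.2.2.mp h)
    rw [allStates, List.filter_append, List.filter_append, List.filter_append, List.length_append, List.length_append,
      List.length_append, part, part, part, part]
  obtain ⟨s0, s1, s2, s3⟩ := ck_sizes
  rw [hUc, hlen] at hU0
  obtain ⟨f0, f1, f2, f3⟩ := ck_subsets (decide (P (root 0).1 (root 0).2)) (decide (P (root 1).1 (root 1).2))
    (decide (P (root 2).1 (root 2).2)) (decide (P (root 3).1 (root 3).2)) (by
      simpa only [t, s0, s1, s2, s3, decide_eq_true_eq] using hU0)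
  have hz : U.card = 0 := by
    simp only [decide_eq_false_iff_not] at f0 f1 f2 f3
    rw [hUc, hlen]
    simp [t, f0, f1, f2, f3]
  rw [Finset.card_eq_zero] at hz
  exact Finset.notMem_empty e (hz ▸ Finset.mem_filter.mpr ⟨Finset.mem_univ e, hbad⟩)

end CfsgLib.J4CentT
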