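import Cfsg.Agent.J4Local.CentT.Fuse

/-!
Every involution of the group is conjugate to the chosen element or to a sum of a pair.
-/

set_option autoImplicit false
set_option maxRecDepth 100000

namespace CfsgLib.J4CentT

open Cfsg CfsgLib.Golay CfsgLib.Golay.Cert MulAction
open scoped Pointwise

theorem centA_comm {g : List ℕ} (hg : g ∈ centA) : ofList g * rg idxA * (ofList g)⁻¹ = rg idxA := by
  obtain ⟨hok, hc⟩ := ck_conj.2.2.2.2.2.2 g hg
  rw [mul_inv_eq_iff_eq_mul]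
  refine conjB_iff.mp ?_
  rw [rg_list ck_conj.2.2.2.2.1, toList_ofList hok]
  exact hc

theorem conj_to_rep {σ : M24} (h : orderOf σ = 2) :
    ∃ m : M24, m * σ * m⁻¹ = rg idxA ∨ m * σ * m⁻¹ = rg idxB := by
  obtain ⟨hA, hB, hcA, hcB, hiA, hiB, -⟩ := ck_conj
  obtain ⟨k, ⟨hk, -, -⟩ | ⟨hk, -⟩⟩ := two_cases h
  · refine ⟨(ofList conjA)⁻¹ * k, Or.inl ?_⟩
    have e : ofList conjA * rg idxA = k * σ * k⁻¹ * ofList conjA := conjB_iff.mp (by
      rw [rg_list hiA, toList_ofList hA, hk]; exact hcA)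
    calc (ofList conjA)⁻¹ * k * σ * ((ofList conjA)⁻¹ * k)⁻¹ = (ofList conjA)⁻¹ * (k * σ * k⁻¹ * ofList conjA) := by group
      _ = rg idxA := by rw [← e, inv_mul_cancel_left]
  · refine ⟨(ofList conjB2)⁻¹ * k, Or.inr ?_⟩
    have e : ofList conjB2 * rg idxB = k * σ * k⁻¹ * ofList conjB2 := conjB_iff.mp (by
      rw [rg_list hiB, toList_ofList hB, hk]; exact hcB)
    calc (ofList conjB2)⁻¹ * k * σ * ((ofList conjB2)⁻¹ * k)⁻¹ =
          (ofList conjB2)⁻¹ * (k * σ * k⁻¹ * ofList conjB2) := by group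
      _ = rg idxB := by rw [← e, inv_mul_cancel_left]

variable {G : Type*} [Group G] [Finite G] {z : G} {F : Fr z} {E : Subgroup G} (hE : EData (F.b zIdx) E)
  (hU : UniqueEleven G)

include hE hU

theorem EData.norm_fused {x : G} (hx : x ∈ Subgroup.normalizer (F.V : Set G)) (hx2 : x * x = 1) :
    ∃ g : G, g * x * g⁻¹ ∈ F.V := by
  obtain ⟨i, hi, σ, rfl⟩ := F.form hx
  have hfx : σ * σ = 1 ∧ actG σ i = i := by
    rw [F.mul_form _ _ hi hi] at hx2
    have h := F.form_inj (xor_lt hi (act_lt _ _)) (show 0 < 2048 by norm_num)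
      (hx2.trans (by rw [F.b_zero, map_one, mul_one] : (1 : G) = F.b 0 * F.kap 1))
    exact ⟨h.2, by simpa [← Nat.xor_assoc] using congrArg (i ^^^ ·) h.1⟩
  by_cases hσ : σ = 1
  · exact ⟨1, by rw [hσ, map_one]; simpa using F.b_mem i hi⟩
  haveI : Fact (Nat.Prime 2) := ⟨Nat.prime_two⟩
  obtain ⟨m, hm⟩ := conj_to_rep (orderOf_eq_prime ((pow_two σ).trans hfx.1) hσ)
  have hstep : ∀ (τ : M24), ∀ j < 2048, ∀ n < 64, inW j = true → τ * σ * τ⁻¹ = rg n → actG τ i = j →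
      ∃ g : G, g * (F.b i * F.kap σ) * g⁻¹ ∈ F.V := by
    intro τ j hj n hn hw hτ hij
    have hin : F.kap τ * (F.b i * F.kap σ) * (F.kap τ)⁻¹ ∈ E := by
      rw [F.conj_kap τ σ hi, hτ, hij]
      exact (hE.mem_iff hU _).mpr ⟨j, hj, hw, n, hn, rfl⟩
    obtain ⟨g, hg⟩ := hE.fused hU hin (by
      rw [show F.kap τ * (F.b i * F.kap σ) * (F.kap τ)⁻¹ * (F.kap τ * (F.b i * F.kap σ) * (F.kap τ)⁻¹) =
        F.kap τ * (F.b i * F.kap σ * (F.b i * F.kap σ)) * (F.kap τ)⁻¹ by group, hx2]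
      group)
    exact ⟨g * F.kap τ, by
      rwa [show g * F.kap τ * (F.b i * F.kap σ) * (g * F.kap τ)⁻¹ =
        g * (F.kap τ * (F.b i * F.kap σ) * (F.kap τ)⁻¹) * g⁻¹ by group]⟩
  have hfix : ∀ n < 64, m * σ * m⁻¹ = rg n → act (rEl n) (actG m i) = actG m i := by
    intro n hn e
    rw [← rg_list hn, ← e]
    show actG (m * σ * m⁻¹) (actG m i) = actG m i
    rw [← F.act_mul _ _ hi, inv_mul_cancel_right, F.act_mul _ _ hi, hfx.2]
  obtain ⟨-, -, -, -, hiA, hiB, -⟩ := ck_conj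
  rcases hm with hm | hm
  · obtain ⟨g, hg, hw⟩ := ck_fixA (actG m i) (act_lt _ _) (hfix _ hiA hm)
    refine hstep (ofList g * m) (act g (actG m i)) (act_lt _ _) idxA hiA hw ?_ ?_
    · rw [show ofList g * m * σ * (ofList g * m)⁻¹ = ofList g * (m * σ * m⁻¹) * (ofList g)⁻¹ by group, hm]
      exact centA_comm hg
    · rw [F.act_mul _ _ hi]
      show act (toList (ofList g).1) (actG m i) = _
      rw [toList_ofList (ck_conj.2.2.2.2.2.2 g hg).1]
  · exact hstep m (actG m i) (act_lt _ _) idxB hiB (ck_fixB _ (act_lt _ _) (hfix _ hiB hm)) hm rfl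

/-- Every involution is conjugate to the chosen element or to a pair sum. -/
theorem EData.involutions {x : G} (hx : orderOf x = 2) :
    IsConj x (F.b zIdx) ∨ ∃ c < 24, ∃ a < c, IsConj x (F.b (pairNo a c)) := by
  haveI : Fact (Nat.Prime 2) := ⟨Nat.prime_two⟩
  have hx2 : x * x = 1 := by rw [← pow_two, ← hx]; exact pow_orderOf_eq_one x
  have hV2 : IsPGroup 2 F.V := IsPGroup.of_card (n := 11) F.card_V
  obtain ⟨T0, hT0⟩ := hV2.exists_le_sylow
  have hz2 : IsPGroup 2 (Subgroup.zpowers x) := IsPGroup.of_card (n := 1) (by rw [Nat.card_zpowers, hx, pow_one])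
  obtain ⟨T, hT⟩ := hz2.exists_le_sylow
  obtain ⟨g, hg⟩ := MulAction.exists_smul_eq G T T0
  have hmem : g * x * g⁻¹ ∈ (T0 : Subgroup G) := by
    rw [← hg, Sylow.coe_subgroup_smul, Subgroup.mem_pointwise_smul_iff_inv_smul_mem, ← map_inv,
      MulAut.smul_def, MulAut.conj_apply, show g⁻¹ * (g * x * g⁻¹) * g⁻¹⁻¹ = x by group]
    exact hT (Subgroup.mem_zpowers x)
  obtain ⟨g2, hg2⟩ := hE.norm_fused hU (sylow_le_norm hU F.elem F.card_V hT0 hmem) (by
    rw [show g * x * g⁻¹ * (g * x * g⁻¹) = g * (x * x) * g⁻¹ by group, hx2]; group)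
  obtain ⟨i, hi, e⟩ := F.b_surj _ hg2
  have hc : IsConj x (F.b i) := isConj_iff.mpr ⟨g2 * g, by rw [e]; group⟩
  have hi0 : i ≠ 0 := by
    rintro rfl
    rw [F.b_zero] at hc
    rw [isConj_one_left.mp hc, orderOf_one] at hx
    norm_num at hx
  rcases F.cases i hi hi0 with h | ⟨c, hc', a, ha, rfl⟩
  · exact Or.inl (hc.trans (h.symm.trans F.zconj))
  · exact Or.inr ⟨c, hc', a, ha, hc⟩

end CfsgLib.J4CentT
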