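import Cfsg.Agent.J4Local.CentT.Frame

/-!
Calculation in the normaliser: products, conjugation, and the stabiliser of the chosen element.
-/

set_option autoImplicit false

namespace CfsgLib.J4CentT

open Cfsg CfsgLib.Golay CfsgLib.Golay.Cert MulAction
open scoped Pointwise

theorem xor_lt {i j : ℕ} (hi : i < 2048) (hj : j < 2048) : i ^^^ j < 2048 := Nat.xor_lt_two_pow (n := 11) hi hj

/-- The action of an element. -/
abbrev actG (σ : M24) (i : ℕ) : ℕ := act (toList σ.1) i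

/-- The element of the subgroup of order 64 with a given number. -/
noncomputable def rg (n : ℕ) : M24 := ofList (rEl n)

theorem rg_list {n : ℕ} (hn : n < 64) : toList (rg n).1 = rEl n := by
  refine toList_ofList (ck_rEl.2.2 _ ?_)
  rw [rEl, List.getD_eq_getElem _ _ (by rw [ck_rEl.2.1]; exact hn)]
  exact List.getElem_mem _

theorem rg_inj {n m : ℕ} (hn : n < 64) (hm : m < 64) (h : rg n = rg m) : n = m := by
  have e : rEl n = rEl m := by rw [← rg_list hn, h, rg_list hm]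
  have hn' : n < rTab.length := by rw [ck_rEl.2.1]; exact hn
  have hm' : m < rTab.length := by rw [ck_rEl.2.1]; exact hm
  rw [rEl, rEl, List.getD_eq_getElem _ _ hn', List.getD_eq_getElem _ _ hm'] at e
  exact ck_rEl.1.getElem_inj_iff.mp e

theorem rg_zero : rg 0 = 1 := toList_coe_injective (by
  show toList (rg 0).1 = toList (1 : Equiv.Perm GolayPt)
  rw [rg_list (by norm_num), toList_one, rEl, ck_tab.2])

theorem exists_rg {σ : M24} (h : toList σ.1 ∈ rTab) : ∃ n < 64, σ = rg n := by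
  obtain ⟨n, hn, e⟩ := List.mem_iff_getElem.mp h
  have hn' : n < 64 := by rwa [← ck_rEl.2.1]
  refine ⟨n, hn', toList_coe_injective ?_⟩
  show toList σ.1 = toList (rg n).1
  rw [rg_list hn', rEl, List.getD_eq_getElem _ _ hn, e]

theorem rg_mul {n m : ℕ} (hn : n < 64) (hm : m < 64) : ∃ k < 64, rg n * rg m = rg k := by
  have hin : ∀ k < 64, rEl k ∈ elsOf sextNGens := fun k hk => by
    rw [rEl, List.getD_eq_getElem _ _ (by rw [ck_rEl.2.1]; exact hk), ← ck_tab.1]
    exact List.getElem_mem _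
  refine exists_rg ?_
  rw [ck_tab.1, Subgroup.coe_mul, toList_mul, rg_list hn, rg_list hm]
  exact sext_closed _ (hin n hn) _ (hin m hm)

theorem rg_sq {n : ℕ} (hn : n < 64) : rg n * rg n = 1 := toList_coe_injective (by
  show toList ((rg n * rg n : M24)).1 = toList (1 : Equiv.Perm GolayPt)
  rw [Subgroup.coe_mul, toList_mul, rg_list hn, toList_one]
  refine (sext_ok.2.1 _ ?_).2
  rw [rEl, List.getD_eq_getElem _ _ (by rw [ck_rEl.2.1]; exact hn), ← ck_tab.1]
  exact List.getElem_mem _)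

theorem inW_iff {i : ℕ} (hi : i < 2048) : inW i = true ↔ i ∈ wList :=
  ⟨ck_wMask i hi, fun h => (ck_wList.2.2 i h).2⟩

theorem inW_lt {i : ℕ} (h : i ∈ wList) : i < 2048 := (ck_wList.2.2 i h).1

/-- A symmetry carries a word to a word. -/
theorem permF_word (σ : M24) {c : ℕ} (hc : c < 4096) : ∃ c' < 4096, permF (toList σ.1) (word c) = word c' := by
  obtain ⟨c', hc', e⟩ := (mem_supports_iff _).mp (M24_image σ.2 ((mem_supports_iff _).mpr ⟨c, hc, rfl⟩))
  exact ⟨c', hc', pts_inj (permF_lt _ _) (word_lt _ hc') (by rw [pts_permF]; exact e)⟩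

theorem actG_cd (σ : M24) {d : ℕ} (hd : d < 2 ^ 24) (he : wt 24 d % 2 = 0) :
    actG σ (cd d) = cd (permF (toList σ.1) d) := by
  have hc : d % 4096 < 4096 := Nat.mod_lt _ (by norm_num)
  obtain ⟨c', hc', e'⟩ := permF_word σ hc
  have hx : permF (toList σ.1) (d ^^^ word (d % 4096)) = permF (toList σ.1) d ^^^ word c' := by
    refine pts_inj (permF_lt _ _) (Nat.xor_lt_two_pow (permF_lt _ _) (word_lt _ hc')) ?_
    rw [pts_permF, pts_xor, Finset.image_symmDiff _ _ σ.1.injective, ← pts_permF, ← pts_permF, pts_xor, e']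
  show cd (permF (toList σ.1) (mk (cd d))) = _
  rw [mk_cd hd he, hx]
  set a := permF (toList σ.1) d
  have h1 : (a ^^^ word c') % 4096 = a % 4096 ^^^ c' := by
    rw [show (4096 : ℕ) = 2 ^ 12 from rfl, Nat.xor_mod_two_pow, show (2 : ℕ) ^ 12 = 4096 from rfl, word_mod _ hc']
  show Nat.shiftRight ((a ^^^ word c') ^^^ word ((a ^^^ word c') % 4096)) 12 % 2048 =
    Nat.shiftRight (a ^^^ word (a % 4096)) 12 % 2048
  have h2 : word (a % 4096 ^^^ c') = word (a % 4096) ^^^ word c' := comb_xor rows _ _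
  rw [h1, h2, show (a ^^^ word c') ^^^ (word (a % 4096) ^^^ word c') =
      (a ^^^ word (a % 4096)) ^^^ (word c' ^^^ word c') by ac_rfl, Nat.xor_self, Nat.xor_zero]

variable {G : Type*} [Group G] {z : G} (F : Fr z)

include F

theorem Fr.b_sq {i : ℕ} (hi : i < 2048) : F.b i * F.b i = 1 := by
  rw [F.b_mul i hi i hi, Nat.xor_self, F.b_zero]

theorem Fr.b_inv {i : ℕ} (hi : i < 2048) : (F.b i)⁻¹ = F.b i := inv_eq_of_mul_eq_one_right (F.b_sq hi)

theorem Fr.b_norm {i : ℕ} (hi : i < 2048) : F.b i ∈ Subgroup.normalizer (F.V : Set G) :=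
  Subgroup.le_normalizer (F.b_mem i hi)

theorem Fr.b_comm {i j : ℕ} (hi : i < 2048) (hj : j < 2048) : F.b i * F.b j = F.b j * F.b i := by
  rw [F.b_mul i hi j hj, F.b_mul j hj i hi, Nat.xor_comm]

theorem Fr.form {n : G} (hn : n ∈ Subgroup.normalizer (F.V : Set G)) :
    ∃ i < 2048, ∃ σ, n = F.b i * F.kap σ := by
  obtain ⟨v, hv, σ, rfl⟩ := F.decomp n hn
  obtain ⟨i, hi, rfl⟩ := F.b_surj v hv
  exact ⟨i, hi, σ, rfl⟩

theorem Fr.form_inj {i j : ℕ} (hi : i < 2048) (hj : j < 2048) {σ τ : M24}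
    (h : F.b i * F.kap σ = F.b j * F.kap τ) : i = j ∧ σ = τ := by
  have e : F.kap (σ * τ⁻¹) = (F.b i)⁻¹ * F.b j := by
    rw [map_mul, map_inv, eq_inv_mul_iff_mul_eq, ← mul_assoc, h, mul_inv_cancel_right]
  have h1 := F.kap_disj _ (e ▸ mul_mem (inv_mem (F.b_mem i hi)) (F.b_mem j hj))
  have hστ : σ = τ := mul_inv_eq_one.mp h1
  subst hστ
  exact ⟨F.b_inj i hi j hj (mul_right_cancel h), rfl⟩

theorem Fr.swap (σ : M24) {i : ℕ} (hi : i < 2048) : F.kap σ * F.b i = F.b (actG σ i) * F.kap σ := by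
  rw [← F.b_conj σ i hi, inv_mul_cancel_right]

theorem Fr.act_one {i : ℕ} (hi : i < 2048) : actG 1 i = i := by
  refine F.b_inj _ (act_lt _ _) _ hi ?_
  rw [← F.b_conj 1 i hi, map_one, one_mul, inv_one, mul_one]

theorem Fr.act_mul (σ τ : M24) {i : ℕ} (hi : i < 2048) : actG (σ * τ) i = actG σ (actG τ i) := by
  refine F.b_inj _ (act_lt _ _) _ (act_lt _ _) ?_
  rw [← F.b_conj _ i hi, ← F.b_conj σ _ (act_lt _ _), ← F.b_conj τ i hi, map_mul]
  group

theorem Fr.act_xor (σ : M24) {i j : ℕ} (hi : i < 2048) (hj : j < 2048) :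
    actG σ (i ^^^ j) = actG σ i ^^^ actG σ j := by
  refine F.b_inj _ (act_lt _ _) _ (xor_lt (act_lt _ _) (act_lt _ _)) ?_
  rw [← F.b_mul _ (act_lt _ _) _ (act_lt _ _), ← F.b_conj _ _ (xor_lt hi hj), ← F.b_mul i hi j hj,
    ← F.b_conj σ i hi, ← F.b_conj σ j hj]
  group

theorem Fr.mul_form (σ τ : M24) {i j : ℕ} (hi : i < 2048) (hj : j < 2048) :
    F.b i * F.kap σ * (F.b j * F.kap τ) = F.b (i ^^^ actG σ j) * F.kap (σ * τ) := by
  rw [← F.b_mul i hi _ (act_lt _ _), map_mul, mul_assoc, ← mul_assoc (F.kap σ), F.swap σ hj]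
  group

theorem Fr.conj_b (σ : M24) {i j : ℕ} (hi : i < 2048) (hj : j < 2048) :
    F.b j * (F.b i * F.kap σ) * (F.b j)⁻¹ = F.b (i ^^^ (j ^^^ actG σ j)) * F.kap σ := by
  rw [F.b_inv hj, show F.b j * (F.b i * F.kap σ) * F.b j = F.b j * F.b i * (F.kap σ * F.b j) by group,
    F.swap σ hj, F.b_mul j hj i hi, ← mul_assoc, F.b_mul _ (xor_lt hj hi) _ (act_lt _ _),
    Nat.xor_comm j i, Nat.xor_assoc]

theorem Fr.conj_kap (g σ : M24) {i : ℕ} (hi : i < 2048) :
    F.kap g * (F.b i * F.kap σ) * (F.kap g)⁻¹ = F.b (actG g i) * F.kap (g * σ * g⁻¹) := by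
  rw [← F.b_conj g i hi, map_mul, map_mul, map_inv]
  group

theorem Fr.comm_iff (σ : M24) {i k : ℕ} (hi : i < 2048) (hk : k < 2048) :
    F.b i * F.kap σ * F.b k = F.b k * (F.b i * F.kap σ) ↔ actG σ k = k := by
  rw [mul_assoc, F.swap σ hk, ← mul_assoc, ← mul_assoc, F.b_mul i hi _ (act_lt _ _), F.b_mul k hk i hi]
  constructor
  · intro h
    have e := F.b_inj _ (xor_lt hi (act_lt _ _)) _ (xor_lt hk hi) (mul_right_cancel h)
    rw [Nat.xor_comm k i] at e
    simpa [← Nat.xor_assoc] using congrArg (i ^^^ ·) e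
  · intro h
    have e : i ^^^ actG σ k = k ^^^ i := by rw [h, Nat.xor_comm]
    rw [e]

omit F in
theorem card_stS : Nat.card ↥(stabilizer M24 (toObj sStd)) = 138240 := by
  have h1 := card_stab_cat sextets_cat.2 sextCat_trans sStd_mem
  exact Nat.eq_of_mul_eq_mul_right (by norm_num : 0 < 1771) (h1.trans (by norm_num))

omit F in
theorem tetrad_ok : ∀ t ∈ sStd, t < 2 ^ 24 ∧ wt 24 t % 2 = 0 := by decide +kernel

/-- The stabiliser of the chosen element is that of the sextet. -/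
theorem Fr.stab_iff [Finite G] (σ : M24) : σ • toObj sStd = toObj sStd ↔ actG σ zIdx = zIdx := by
  obtain ⟨H, hH, hmem⟩ := F.zstab
  have hle : stabilizer M24 (toObj sStd) ≤ H := by
    intro τ hτ
    rw [hmem]
    have hs : τ • toObj sStd = toObj sStd := mem_stabilizer_iff.mp hτ
    have ht : (147496 : ℕ) ∈ sStd := by decide
    obtain ⟨t', ht', e⟩ : ∃ t' ∈ sStd, pts t' = pts (permF (toList τ.1) 147496) := by
      refine mem_toObj.mp ?_
      rw [← hs, pts_permF, ← smul_finset_eq_image]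
      exact Finset.smul_mem_smul_finset (mem_toObj.mpr ⟨_, ht, rfl⟩)
    rw [← ck_zIdx.2.1 _ ht, show act (toList τ.1) (cd 147496) = actG τ (cd 147496) from rfl,
      actG_cd τ (tetrad_ok _ ht).1 (tetrad_ok _ ht).2, ← pts_inj (tetrad_ok _ ht').1 (permF_lt _ _) e,
      ck_zIdx.2.1 _ ht', ck_zIdx.2.1 _ ht]
  have e := Subgroup.eq_of_le_of_card_ge hle (by rw [hH, card_stS])
  show σ ∈ stabilizer M24 (toObj sStd) ↔ _
  rw [e, hmem]

end CfsgLib.J4CentT
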